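import Mathlib

/-!
# The `2`-part of the order of `²E₆(q)` (helper129)
-/

set_option autoImplicit false

namespace Cfsg.Agent.H129.AO

/-- the order polynomial -/
def ordTw (q : ℕ) : ℕ :=
  q ^ 36 * (q ^ 2 - 1) * (q ^ 5 + 1) * (q ^ 6 - 1) * (q ^ 8 - 1) * (q ^ 9 + 1) * (q ^ 12 - 1)

theorem sub_fac (q : ℕ) (hq : 1 ≤ q) : (q ^ 2 - 1 = (q - 1) * (q + 1)) ∧
    (q ^ 6 - 1 = (q - 1) * (q + 1) * (q ^ 4 + q ^ 2 + 1)) ∧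
    (q ^ 8 - 1 = (q - 1) * (q + 1) * (q ^ 2 + 1) * (q ^ 4 + 1)) ∧
    (q ^ 12 - 1 = (q - 1) * (q + 1) * (q ^ 2 + 1) * (q ^ 8 + q ^ 4 + 1)) := by
  obtain ⟨r, rfl⟩ : ∃ r, q = r + 1 := ⟨q - 1, by omega⟩
  refine ⟨?_, ?_, ?_, ?_⟩ <;>
  · rw [Nat.add_sub_cancel]
    apply Nat.sub_eq_of_eq_add
    ring

theorem add_fac (q : ℕ) (hq : 1 ≤ q) : (q ^ 5 + 1 = (q + 1) * (q ^ 3 * (q - 1) + q * (q - 1) + 1)) ∧
    (q ^ 9 + 1 = (q + 1) * (q ^ 7 * (q - 1) + q ^ 5 * (q - 1) + q ^ 3 * (q - 1) + q * (q - 1) + 1)) := by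
  obtain ⟨r, rfl⟩ : ∃ r, q = r + 1 := ⟨q - 1, by omega⟩
  refine ⟨?_, ?_⟩ <;>
  · rw [Nat.add_sub_cancel]
    ring

/-- the odd factor common to both cases -/
theorem ordTw_eq (q : ℕ) (hq : Odd q) : ∃ o : ℕ, Odd o ∧
    ordTw q = (q - 1) ^ 4 * (q + 1) ^ 6 * 8 * o := by
  obtain ⟨h2, h6, h8, h12⟩ := sub_fac q hq.pos
  obtain ⟨h5, h9⟩ := add_fac q hq.pos
  obtain ⟨j, rfl⟩ := hq
  have e1 : 2 * j + 1 - 1 = 2 * j := by omega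
  have b1 : (2 * j + 1) ^ 2 + 1 = 2 * (2 * (j * j + j) + 1) := by ring
  have b2 : (2 * j + 1) ^ 4 + 1 = 2 * (2 * (4 * j ^ 4 + 8 * j ^ 3 + 6 * j ^ 2 + 2 * j) + 1) := by ring
  have o1 : Odd (2 * (j * j + j) + 1) := ⟨_, rfl⟩
  have o2 : Odd (2 * (4 * j ^ 4 + 8 * j ^ 3 + 6 * j ^ 2 + 2 * j) + 1) := ⟨_, rfl⟩
  have oq : Odd (2 * j + 1) := ⟨_, rfl⟩
  have o3 : Odd ((2 * j + 1) ^ 4 + (2 * j + 1) ^ 2 + 1) := by
    have := (oq.pow (n := 4)).add_odd (oq.pow (n := 2))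
    exact this.add_one
  have o4 : Odd ((2 * j + 1) ^ 8 + (2 * j + 1) ^ 4 + 1) := by
    have := (oq.pow (n := 8)).add_odd (oq.pow (n := 4))
    exact this.add_one
  have o5 : Odd ((2 * j + 1) ^ 3 * (2 * j) + (2 * j + 1) * (2 * j) + 1) := by
    refine Even.add_one (Even.add ?_ ?_) <;> exact (even_two_mul j).mul_left _
  have o6 : Odd ((2 * j + 1) ^ 7 * (2 * j) + (2 * j + 1) ^ 5 * (2 * j) + (2 * j + 1) ^ 3 * (2 * j) +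
      (2 * j + 1) * (2 * j) + 1) := by
    refine Even.add_one (Even.add (Even.add (Even.add ?_ ?_) ?_) ?_) <;> exact (even_two_mul j).mul_left _
  rw [e1] at h2 h6 h8 h12 h5 h9
  rw [ordTw, h2, h6, h8, h12, h5, h9, b1, b2, e1]
  refine ⟨(2 * j + 1) ^ 36 * ((2 * j + 1) ^ 4 + (2 * j + 1) ^ 2 + 1) * ((2 * j + 1) ^ 8 + (2 * j + 1) ^ 4 + 1) *
    ((2 * j + 1) ^ 3 * (2 * j) + (2 * j + 1) * (2 * j) + 1) *
    ((2 * j + 1) ^ 7 * (2 * j) + (2 * j + 1) ^ 5 * (2 * j) + (2 * j + 1) ^ 3 * (2 * j) + (2 * j + 1) * (2 * j) + 1) *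
    (2 * (j * j + j) + 1) ^ 2 * (2 * (4 * j ^ 4 + 8 * j ^ 3 + 6 * j ^ 2 + 2 * j) + 1), ?_, ?_⟩
  · exact ((((((oq.pow).mul o3).mul o4).mul o5).mul o6).mul o1.pow).mul o2
  · generalize 2 * (j * j + j) + 1 = a1
    generalize 2 * (4 * j ^ 4 + 8 * j ^ 3 + 6 * j ^ 2 + 2 * j) + 1 = a2
    generalize (2 * j + 1) ^ 4 + (2 * j + 1) ^ 2 + 1 = a3
    generalize (2 * j + 1) ^ 8 + (2 * j + 1) ^ 4 + 1 = a4
    generalize (2 * j + 1) ^ 3 * (2 * j) + (2 * j + 1) * (2 * j) + 1 = a5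
    generalize (2 * j + 1) ^ 7 * (2 * j) + (2 * j + 1) ^ 5 * (2 * j) + (2 * j + 1) ^ 3 * (2 * j) +
      (2 * j + 1) * (2 * j) + 1 = a6
    generalize 2 * j = b
    ring

/-- `q ≡ 1 mod 4` -/
theorem ordTw_one {q : ℕ} (h : q % 4 = 1) : ∃ o : ℕ, Odd o ∧
    ordTw q ∣ (q - 1) ^ 4 * (q + 1) ^ 2 * 384 * o := by
  obtain ⟨o, ho, e⟩ := ordTw_eq q (Nat.odd_iff.2 (by omega))
  obtain ⟨m, hm⟩ : ∃ m, q = 4 * m + 1 := ⟨q / 4, by omega⟩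
  refine ⟨(2 * m + 1) ^ 4 * o, (Odd.pow ⟨_, rfl⟩).mul ho, 3, ?_⟩
  rw [e, hm]
  have e1 : 4 * m + 1 - 1 = 4 * m := by omega
  have e2 : 4 * m + 1 + 1 = 2 * (2 * m + 1) := by ring
  rw [e1, e2]
  ring

/-- `q ≡ 3 mod 4` -/
theorem ordTw_three {q : ℕ} (h : q % 4 = 3) : ∃ o : ℕ, Odd o ∧
    ordTw q ∣ (q + 1) ^ 6 * 384 * o := by
  obtain ⟨o, ho, e⟩ := ordTw_eq q (Nat.odd_iff.2 (by omega))
  obtain ⟨m, hm⟩ : ∃ m, q = 4 * m + 3 := ⟨q / 4, by omega⟩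
  refine ⟨(2 * m + 1) ^ 4 * o, (Odd.pow ⟨_, rfl⟩).mul ho, 3, ?_⟩
  rw [e, hm]
  have e1 : 4 * m + 3 - 1 = 2 * (2 * m + 1) := by omega
  rw [e1]
  ring

/-- odd powers -/
theorem pow_sub_one_odd {a m : ℕ} (ha : Odd a) (hm : Odd m) : ∃ o, Odd o ∧ a ^ m - 1 = (a - 1) * o := by
  refine ⟨∑ i ∈ Finset.range m, a ^ i, ?_, ?_⟩
  · rw [Finset.odd_sum_iff_odd_card_odd]
    have h1 : (Finset.range m).filter (fun i => Odd (a ^ i)) = Finset.range m := by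
      rw [Finset.filter_eq_self]
      exact fun i _ => ha.pow
    rw [h1, Finset.card_range]
    exact hm
  · obtain ⟨b, rfl⟩ : ∃ b, a = b + 1 := ⟨a - 1, by have := ha.pos; omega⟩
    have h1 := geom_sum_mul_add b m
    rw [← h1, Nat.add_sub_cancel, Nat.add_sub_cancel, mul_comm]

theorem pow_add_one_odd {a m : ℕ} (ha : Odd a) (hm : Odd m) : ∃ o, Odd o ∧ a ^ m + 1 = (a + 1) * o := by
  obtain ⟨j, rfl⟩ := hm
  induction j with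
  | zero => exact ⟨1, odd_one, by ring⟩
  | succ j ih =>
    obtain ⟨o, ho, e⟩ := ih
    obtain ⟨b, rfl⟩ : ∃ b, a = b + 1 := ⟨a - 1, by have := ha.pos; omega⟩
    have ho1 : 1 ≤ o := ho.pos
    have hle : b ≤ (b + 1) ^ 2 * o := by nlinarith
    have hb : Even b := by
      rcases Nat.even_or_odd b with h | h
      · exact h
      · exact absurd ha (Nat.not_odd_iff_even.2 h.add_one)
    refine ⟨(b + 1) ^ 2 * o - b, ?_, ?_⟩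
    · exact Nat.Odd.sub_even hle (ha.pow.mul ho) hb
    · have h1 : (b + 1) ^ (2 * (j + 1) + 1) + 1 + b * (b + 2) = (b + 1) ^ 2 * ((b + 1) ^ (2 * j + 1) + 1) := by ring
      rw [e] at h1
      have h2 : (b + 1 + 1) * ((b + 1) ^ 2 * o - b) + b * (b + 2) = (b + 1) ^ 2 * ((b + 1 + 1) * o) := by
        obtain ⟨c, hc⟩ := Nat.exists_eq_add_of_le hle
        rw [hc, Nat.add_sub_cancel_left]
        have h3 : (b + 1) ^ 2 * ((b + 1 + 1) * o) = (b + 1 + 1) * ((b + 1) ^ 2 * o) := by ring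
        rw [h3, hc]
        ring
      omega

/-- the `2`-part does not change in extensions of odd degree -/
theorem ordTw_pow {q m : ℕ} (hq : Odd q) (hm : Odd m) : ∃ o : ℕ, Odd o ∧ ordTw (q ^ m) ∣ ordTw q * o := by
  obtain ⟨o2, h2, e2⟩ := pow_sub_one_odd (a := q ^ 2) hq.pow hm
  obtain ⟨o5, h5, e5⟩ := pow_add_one_odd (a := q ^ 5) hq.pow hm
  obtain ⟨o6, h6, e6⟩ := pow_sub_one_odd (a := q ^ 6) hq.pow hm
  obtain ⟨o8, h8, e8⟩ := pow_sub_one_odd (a := q ^ 8) hq.pow hm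
  obtain ⟨o9, h9, e9⟩ := pow_add_one_odd (a := q ^ 9) hq.pow hm
  obtain ⟨o12, h12, e12⟩ := pow_sub_one_odd (a := q ^ 12) hq.pow hm
  rw [← pow_mul, mul_comm, pow_mul] at e2 e5 e6 e8 e9 e12
  refine ⟨(q ^ m) ^ 36 * o2 * o5 * o6 * o8 * o9 * o12,
    ((((((hq.pow.pow).mul h2).mul h5).mul h6).mul h8).mul h9).mul h12, q ^ 36, ?_⟩
  rw [ordTw, ordTw, e2, e5, e6, e8, e9, e12]
  ring

end Cfsg.Agent.H129.AO
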