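import Cfsg.Agent.H129.AO.Inndiag
import Cfsg.Agent.H166.OutTwESix

/-!
# The automorphisms of `²E₆(q)` (helper129)

* `exists_dgy` : the diagonal automorphisms are induced by fixed torus elements;
* `exists_dec` : every automorphism is the product of an element of `D6` and a field automorphism.
-/

set_option autoImplicit false
set_option linter.unusedSectionVars false
set_option maxHeartbeats 400000

namespace Cfsg.Agent.H129.AO

open CoxeterSystem Cfsg.Agent.ChevalleyStructure.CoxeterGeom Cfsg.Agent.Tits.Roots Cfsg.Agent.Tits.Core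
  Cfsg.Agent.Tits.Exchange Cfsg.Agent.Nodes.Reps Cfsg.Agent.Nodes.BNOf Cfsg.Agent.Nodes.StabComb
  Cfsg.Agent.Nodes.Bruhat Cfsg.Agent.Nodes.OppDec Cfsg.Agent.Nodes.RGDTwGen Cfsg.Agent.Nodes.RGDChev
  Cfsg.Agent.Nodes.RGDFold Cfsg.Agent.Nodes.RGDFoldSL
open Cfsg.Agent.KFacts.RgdOpp Cfsg.Agent.KFacts.RgdAut Cfsg.Agent.KFacts.RgdDiag Cfsg.Agent.KFacts.RgdRigid
  Cfsg.Agent.KFacts.RgdField Cfsg.Agent.KFacts.RgdTau Cfsg.Agent.KFacts.RgdNodes
open Cfsg Cfsg.Lie Cfsg.Agent.ChevalleyStructure Cfsg.Agent.ChevalleyStructure.Elts Cfsg.Agent.ChevStructure.FieldMap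
open Cfsg.Agent.ChevalleyStructure.SL2Hom (up lo)
open Cfsg.Agent.KFacts.TwESix.NodeCoord Cfsg.Agent.KFacts.TwESix.Out Cfsg.Agent.KFacts.TwESix.OutTwo
open Cfsg.Agent.Nodes.RGDTwE6 Cfsg.Agent.Nodes.RGDTwNode.E6
open Cfsg.Agent.ChevalleyStructure.TwE6Basic (hE6 single_mem pair_mem twisted_le_iff exists_frob twisted_le_fix)
open Cfsg.Agent.H70.ChevDiag Cfsg.Agent.H166.TwDiag Cfsg.Agent.H166.OutNodes Cfsg.Agent.H166.OutRGD
open Cfsg.Agent.CpAut.RgdTwE6 (st rs st_up ntau_st ntau_of_ftau tau_phi coe_up)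
open Cfsg.Agent.H166.OutTwESix
open Cfsg.Agent.H129.TwE6Fr (tau embT coe_embT embT_injective fix_iff pj)
open Cfsg.Agent.H129.TorusChar (cX IsMC exists_cX cX_sr isMC_cX cX_vec)
open Cfsg.Agent.KFacts.RgdChevCoord (TT)
open Cfsg.Agent.GpExc.Field Cfsg.Agent.BpExc.EmbInst

open scoped Pointwise

universe u

section

variable {k : Type u} [Field k] [IsAlgClosed k] {p e : ℕ} [Fact p.Prime] [CharP k p]
  {K : Type u} [Field K] [Fintype K] (f : K →+* k) {q : ℕ} {φ : K →+* K} (hφ : ∀ x, φ x = x ^ q)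
  (hqq : ∀ t : K, (t ^ q) ^ q = t)

/-- the action of a torus element on root elements -/
theorem act_xG {y : ↥(chevE6.group k)} (hy : y ∈ TT chevE6 k) {r : ℕ} (hr : r < chevE6.nroots) (t : k) :
    (y : GL chevE6.Idx k) * xG hE6 r t * (y : GL chevE6.Idx k)⁻¹ =
      xG hE6 r (cX Cfsg.Agent.Nodes.RGDTwE6.hp y (vec chevE6 6 r) * t) := by
  have h1 := (KFacts.RgdChevCoord.act Cfsg.Agent.Nodes.RGDTwE6.hp hr hy).2 t
  have h2 := congrArg Subtype.val h1
  rw [cX_vec Cfsg.Agent.Nodes.RGDTwE6.hp hy hr]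
  rw [Subgroup.coe_mul, Subgroup.coe_mul, Subgroup.coe_inv, KFacts.RgdChevCoord.coe_xc Cfsg.Agent.Nodes.RGDTwE6.hp hr,
    KFacts.RgdChevCoord.coe_xc Cfsg.Agent.Nodes.RGDTwE6.hp hr] at h2
  exact h2

theorem vec_tab : vec chevE6 6 56 = sr 0 ∧ vec chevE6 6 46 = sr 1 ∧ vec chevE6 6 42 = sr 2 ∧
    vec chevE6 6 39 = sr 3 ∧ vec chevE6 6 37 = sr 4 ∧ vec chevE6 6 36 = sr 5 ∧
    vec chevE6 6 15 = -sr 0 ∧ vec chevE6 6 25 = -sr 1 ∧ vec chevE6 6 29 = -sr 2 ∧
    vec chevE6 6 32 = -sr 3 ∧ vec chevE6 6 34 = -sr 4 ∧ vec chevE6 6 35 = -sr 5 := by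
  refine ⟨?_, ?_, ?_, ?_, ?_, ?_, ?_, ?_, ?_, ?_, ?_, ?_⟩ <;> · funext i; revert i; decide +kernel

include hφ hqq in
theorem exists_dgy (hqe : q = p ^ e) (hq : IsPrimePow q) (hF : Fintype.card K = q ^ 2) (c : ∀ i, (KF φ i)ˣ) :
    ∃ β : MulAut ↥(twistedE6 K q), Diag (T K q) (X φ q) β 1 ∧
      (∀ i a, β (PhiE hφ hqq i (up a)) = PhiE hφ hqq i (up ((c i : KF φ i) * a))) ∧
      β ∈ D6 k p e f hq hF := by
  let v : Fin 4 → Kˣ := fun i => Units.map ((KF φ i).subtype : KF φ i →* K) (c i)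
  have hv : ∀ i, (v i : K) = ((c i : KF φ i) : K) := fun i => rfl
  let c' : Fin 6 → Kˣ := ![v 3, v 0, v 2, v 1, v 2 ^ q, v 3 ^ q]
  obtain ⟨χ, hM, h1, h2⟩ := exists_diagAut hE6 (F := K) c'
  have e0 : χ 56 = v 3 := by have := h1 (0 : Fin 6); rwa [(simple_tab 0).1] at this
  have e1 : χ 46 = v 0 := by have := h1 (1 : Fin 6); rwa [(simple_tab 1).1] at this
  have e2 : χ 42 = v 2 := by have := h1 (2 : Fin 6); rwa [(simple_tab 2).1] at this
  have e3 : χ 39 = v 1 := by have := h1 (3 : Fin 6); rwa [(simple_tab 3).1] at this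
  have e4 : χ 37 = v 2 ^ q := by have := h1 (4 : Fin 6); rwa [(simple_tab 4).1] at this
  have e5 : χ 36 = v 3 ^ q := by have := h1 (5 : Fin 6); rwa [(simple_tab 5).1] at this
  have n0 : χ 15 = (v 3)⁻¹ := by have := h2 (0 : Fin 6); rwa [(simple_tab 0).2] at this
  have n1 : χ 25 = (v 0)⁻¹ := by have := h2 (1 : Fin 6); rwa [(simple_tab 1).2] at this
  have n2 : χ 29 = (v 2)⁻¹ := by have := h2 (2 : Fin 6); rwa [(simple_tab 2).2] at this
  have n3 : χ 32 = (v 1)⁻¹ := by have := h2 (3 : Fin 6); rwa [(simple_tab 3).2] at this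
  have n4 : χ 34 = (v 2 ^ q)⁻¹ := by have := h2 (4 : Fin 6); rwa [(simple_tab 4).2] at this
  have n5 : χ 35 = (v 3 ^ q)⁻¹ := by have := h2 (5 : Fin 6); rwa [(simple_tab 5).2] at this
  have f0 : v 0 ^ q = v 0 := by
    apply Units.ext
    rw [Units.val_pow_eq_pow_val, ← hφ, hv]
    have := (c 0 : KF φ 0).2
    rwa [mem_Fx] at this
  have f1 : v 1 ^ q = v 1 := by
    apply Units.ext
    rw [Units.val_pow_eq_pow_val, ← hφ, hv]
    have := (c 1 : KF φ 1).2
    rwa [mem_Fx] at this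
  have hok : Ok q χ := by
    constructor
    · intro r hr
      simp only [List.mem_cons, List.not_mem_nil, or_false] at hr
      rcases hr with rfl | rfl | rfl | rfl
      · rw [e1, f0]
      · rw [n1, inv_pow, f0]
      · rw [e3, f1]
      · rw [n3, inv_pow, f1]
    · intro r hr
      simp only [List.mem_cons, List.not_mem_nil, or_false] at hr
      rcases hr with rfl | rfl | rfl | rfl
      · show χ 36 = χ 56 ^ q
        rw [e5, e0]
      · show χ 35 = χ 15 ^ q
        rw [n5, n0, inv_pow]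
      · show χ 37 = χ 42 ^ q
        rw [e4, e2]
      · show χ 34 = χ 29 ^ q
        rw [n4, n2, inv_pow]
  refine ⟨dgA (conj_mem hM hok) (conj_mem' hM hok), diag_dgA hφ hqq hM hok, fun i a => ?_, ?_⟩
  · apply Subtype.ext
    rw [coe_dgA, coe_up, coe_up, conj_yv hE6 hM (c := ((c i : KF φ i) : K))]
    · rfl
    intro k hk
    have hi : i = 0 ∨ i = 1 ∨ i = 2 ∨ i = 3 := by fin_cases i <;> simp
    rcases hi with rfl | rfl | rfl | rfl
    · have hk' : k < 1 := hk
      obtain rfl : k = 0 := by omega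
      show (χ 46 : K) = _
      rw [e1]; rfl
    · have hk' : k < 1 := hk
      obtain rfl : k = 0 := by omega
      show (χ 39 : K) = _
      rw [e3]; rfl
    · have hk' : k < 2 := hk
      have hk2 : k = 0 ∨ k = 1 := by omega
      rcases hk2 with rfl | rfl
      · show (χ 42 : K) = _
        rw [e2]; rfl
      · show (χ 37 : K) = φ _
        rw [e4, hφ, Units.val_pow_eq_pow_val]; rfl
    · have hk' : k < 2 := hk
      have hk2 : k = 0 ∨ k = 1 := by omega
      rcases hk2 with rfl | rfl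
      · show (χ 56 : K) = _
        rw [e0]; rfl
      · show (χ 36 : K) = φ _
        rw [e5, hφ, Units.val_pow_eq_pow_val]; rfl
  · -- the torus element
    have hcf : ∀ j, f (c' j : K) ≠ 0 := fun j => (map_ne_zero f).2 (c' j).ne_zero
    obtain ⟨y, hy, hyc⟩ := exists_cX Cfsg.Agent.Nodes.RGDTwE6.hp TorusChar.invC_E6 (by norm_num)
      (IsMC.of_prod (fun j => f (c' j : K)) hcf) (fun i => IsAlgClosed.exists_pow_nat_eq _ (by norm_num))
    have hyi : ∀ j, cX Cfsg.Agent.Nodes.RGDTwE6.hp y (sr j) = f (c' j : K) := fun j => by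
      rw [hyc]
      show ∏ i, f (c' i : K) ^ (sr j : Fin 6 → ℤ) i = _
      rw [Finset.prod_eq_single j]
      · rw [sr_self, zpow_one]
      · intro i _ hi
        rw [sr_ne hi, zpow_zero]
      · intro hi
        exact absurd (Finset.mem_univ j) hi
    have hyn : ∀ j, cX Cfsg.Agent.Nodes.RGDTwE6.hp y (-sr j) = f ((c' j)⁻¹ : Kˣ) := fun j => by
      rw [(isMC_cX Cfsg.Agent.Nodes.RGDTwE6.hp hy).neg, hyi, ← map_inv₀, Units.val_inv_eq_inv_val]
    have hfix : tau k p e y = y := by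
      rw [fix_iff hqe hy]
      intro i
      rw [hyi, hyi, ← map_pow, ← Units.val_pow_eq_pow_val]
      congr 2
      fin_cases i
      · rfl
      · exact f0.symm
      · rfl
      · exact f1.symm
      · show v 2 = (v 2 ^ q) ^ q
        apply Units.ext
        rw [Units.val_pow_eq_pow_val, Units.val_pow_eq_pow_val, hqq]
      · show v 3 = (v 3 ^ q) ^ q
        apply Units.ext
        rw [Units.val_pow_eq_pow_val, Units.val_pow_eq_pow_val, hqq]
    refine ⟨y, hfix, fun x => ?_⟩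
    apply Subtype.ext
    rw [coe_embT, coe_dgA, Subgroup.coe_mul, Subgroup.coe_mul, Subgroup.coe_inv, coe_embT]
    have hval : ∀ r ∈ [56, 46, 42, 39, 37, 36, 15, 25, 29, 32, 34, 35],
        f (χ r : K) = cX Cfsg.Agent.Nodes.RGDTwE6.hp y (vec chevE6 6 r) := by
      obtain ⟨a0, a1, a2, a3, a4, a5, b0, b1, b2, b3, b4, b5⟩ := vec_tab
      intro r hr
      simp only [List.mem_cons, List.not_mem_nil, or_false] at hr
      rcases hr with rfl | rfl | rfl | rfl | rfl | rfl | rfl | rfl | rfl | rfl | rfl | rfl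
      · rw [a0, hyi, e0]; rfl
      · rw [a1, hyi, e1]; rfl
      · rw [a2, hyi, e2]; rfl
      · rw [a3, hyi, e3]; rfl
      · rw [a4, hyi, e4]; rfl
      · rw [a5, hyi, e5]; rfl
      · rw [b0, hyn, n0]; rfl
      · rw [b1, hyn, n1]; rfl
      · rw [b2, hyn, n2]; rfl
      · rw [b3, hyn, n3]; rfl
      · rw [b4, hyn, n4]; rfl
      · rw [b5, hyn, n5]; rfl
    have hx : ∀ r ∈ [56, 46, 42, 39, 37, 36, 15, 25, 29, 32, 34, 35], ∀ t : K,
        glMap chevE6 f (dG chevE6 χ * xG hE6 r t * (dG chevE6 χ)⁻¹) =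
          (y : GL chevE6.Idx k) * glMap chevE6 f (xG hE6 r t) * (y : GL chevE6.Idx k)⁻¹ := by
      intro r hr t
      have hr' : r < chevE6.nroots := by
        simp only [List.mem_cons, List.not_mem_nil, or_false] at hr
        show r < 72
        omega
      rw [dG_conj hE6 hM, glMap_xG, glMap_xG, map_mul, hval r hr, act_xG hy hr']
    have key : twistedE6 K q ≤ MonoidHom.eqLocus
        ((glMap chevE6 f).comp (MulAut.conj (dG chevE6 χ)).toMonoidHom)
        ((MulAut.conj (y : GL chevE6.Idx k)).toMonoidHom.comp (glMap chevE6 f)) := by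
      rw [twisted_le_iff]
      constructor
      · intro t ht r hr
        refine hx r ?_ t
        simp only [List.mem_cons, List.not_mem_nil, or_false] at hr ⊢
        omega
      · intro t rs hrs
        have h5 := hx rs.1 (by
          simp only [List.mem_cons, List.not_mem_nil, or_false] at hrs ⊢
          rcases hrs with rfl | rfl | rfl | rfl <;> simp) t
        have h6 := hx rs.2 (by
          simp only [List.mem_cons, List.not_mem_nil, or_false] at hrs ⊢
          rcases hrs with rfl | rfl | rfl | rfl <;> simp) (t ^ q)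
        exact mul_mem (S := Subgroup (GL chevE6.Idx K)) (show xG hE6 rs.1 t ∈ MonoidHom.eqLocus _ _ from h5)
          (show xG hE6 rs.2 (t ^ q) ∈ MonoidHom.eqLocus _ _ from h6)
    exact key x.2

include hφ hqq in
/-- **Every automorphism is inner-diagonal times a field automorphism.** -/
theorem exists_dec [CharP K p] (hqe : q = p ^ e) (hq : IsPrimePow q) (hF : Fintype.card K = q ^ 2)
    (α : MulAut ↥(twistedE6 K q)) : ∃ δ ∈ D6 k p e f hq hF, ∃ τ : K ≃+* K, α = δ * st q τ := by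
  have hW : Finite CoxeterMatrix.F₄.Group := Nat.finite_of_card_ne_zero (by
    rw [show Nat.card CoxeterMatrix.F₄.Group = 1152 from S1092.result (⟨4, CoxeterMatrix.F₄⟩, 1152) (by simp)]
    norm_num)
  set cs := CoxeterMatrix.F₄.toCoxeterSystem with hcs
  have R := Cfsg.Agent.Nodes.RGDTwE6.rgd cs hφ hqq p
  have hG1 := G1_top cs hφ hqq
  have hG := GG_eq_top (T := T K q) hG1
  have hU := not_dvd_index hφ hqq cs p
  -- to the frame
  obtain ⟨g, hg⟩ : ∃ g : ↥(twistedE6 K q), MulAut.conj g * α ∈ Frame cs isCartan (X φ q) := by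
    let S : Sylow p ↥(twistedE6 K q) := R.isPGroup_Upos.toSylow hU
    have hS : (S : Subgroup ↥(twistedE6 K q)) = RGD.Sup (X φ q) (RGD.Pos cs isCartan) := rfl
    obtain ⟨x, hx⟩ := MulAction.exists_smul_eq ↥(twistedE6 K q) (α • S) S
    have h1 : (S : Subgroup ↥(twistedE6 K q)).map (MulAut.conj x * α).toMonoidHom = S := by
      have h2 := congrArg (fun S : Sylow p ↥(twistedE6 K q) => (S : Subgroup ↥(twistedE6 K q))) hx
      simp only [Sylow.smul_def, Sylow.pointwise_smul_def] at h2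
      rw [smul_smul] at h2
      exact h2
    have h2 : Fix (MulAut.conj x * α) (RGD.Sup (X φ q) (RGD.Pos cs isCartan)) := by
      rw [KFacts.RgdAut.fix_iff, ← hS]
      exact h1
    obtain ⟨u, hu, h3, -, h4, -⟩ := exists_frame R hG h2
    refine ⟨u * x, ?_⟩
    rw [map_mul, mul_assoc]
    exact ⟨h3, h4⟩
  set γ := MulAut.conj g * α with hγ
  obtain ⟨σ, D⟩ := exists_diag R hG hg.1 hg.2
  have hσ : σ = 1 := by
    apply perm_F4 σ (D.matrix R)
    intro h3
    have h4 := Diag.card_eq D 0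
    rw [h3] at h4
    exact card_ne hφ hqq hF hq.one_lt h4
  subst hσ
  obtain ⟨τ, S⟩ := exists_ftau hφ hqq cs p D
  have S1 := (ntau_of_ftau hφ hqq S).mul (ntau_st hφ hqq τ cs p).inv
  rw [mul_inv_cancel] at S1
  have h5 := fun i => NTau.semi (coordE hφ hqq) S1 i
  choose c hc hx using h5
  obtain ⟨β, hβD, hβx, hβ6⟩ := exists_dgy (k := k) (p := p) (e := e) f hφ hqq hqe hq hF
    (fun i => Units.mk0 (c i) (hc i))
  have hβ : γ * (st q τ)⁻¹ = β := by
    have D'' : Diag (T K q) (X φ q) ((γ * (st q τ)⁻¹)⁻¹ * β) 1 := by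
      have := S1.diag.inv.mul hβD
      rwa [inv_one, mul_one] at this
    have h6 := Diag.eq_one R hG1 D'' (by
      intro i y hy
      obtain ⟨a, rfl⟩ := ((coordE hφ hqq i).mem y).1 hy
      rw [MulAut.mul_apply]
      have h7 : β (PhiE hφ hqq i (up a)) = PhiE hφ hqq i (up (c i * a)) := hβx i a
      have h8 : (γ * (st q τ)⁻¹) (PhiE hφ hqq i (up a)) = PhiE hφ hqq i (up (c i * a)) := hx i a
      show (γ * (st q τ)⁻¹)⁻¹ (β (PhiE hφ hqq i (up a))) = PhiE hφ hqq i (up a)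
      rw [h7, ← h8, MulAut.inv_apply_self])
    exact inv_mul_eq_one.1 h6
  refine ⟨MulAut.conj g⁻¹ * β, mul_mem (inn_le f hqe hq hF ⟨g⁻¹, rfl⟩) hβ6, τ, ?_⟩
  rw [← hβ, hγ, map_inv]
  group

end

end Cfsg.Agent.H129.AO
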