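import Cfsg.Agent.H129.AO.LTor
import Cfsg.Agent.H129.AO.Arith
import Cfsg.Agent.H129.TwE6Idx
import Cfsg.Agent.H561.RV.Defs
import Cfsg.Agent.S1066

/-!
# A torus element of `²E₆(q)` centralizing a Sylow `2`-subgroup (helper129)

`exists_Q` : `h ∈ T` with character `x ↦ c ^ lam x` commutes with a subgroup `Q` of `²E₆(q)` of order divisible by the `2`-part of
`|²E₆(q)|`, `q` odd.
-/

set_option autoImplicit false
set_option linter.unusedSectionVars false

namespace Cfsg.Agent.H129.AO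

open CoxeterSystem Cfsg Cfsg.Lie Cfsg.Lie.ChevalleyDatum
open Cfsg.Agent.ChevalleyStructure Cfsg.Agent.ChevalleyStructure.Elts Cfsg.Agent.ChevalleyStructure.CoxeterGeom
  Cfsg.Agent.ChevalleyStructure.CoxeterGeomTypes Cfsg.Agent.ChevalleyStructure.NPerm
open Cfsg.Agent.Tits.Roots Cfsg.Agent.Tits.Core Cfsg.Agent.Nodes Cfsg.Agent.Nodes.Reps Cfsg.Agent.Nodes.BNOf
  Cfsg.Agent.Nodes.RGDChev Cfsg.Agent.Nodes.Bruhat Cfsg.Agent.Nodes.SubComb Cfsg.Agent.Nodes.Coroot
open Cfsg.Agent.KFacts.RgdField Cfsg.Agent.KFacts.RgdChevCoord Cfsg.Agent.BpExc.TorCent Cfsg.Agent.BpExc.TorChev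
open Cfsg.Agent.GpExc.Field Cfsg.Agent.BpExc.Tow Cfsg.Agent.BpExc.TowChev Cfsg.Agent.BpExc.Fr
  Cfsg.Agent.BpExc.LangFr Cfsg.Agent.LangThm Cfsg.Agent.BpExc Cfsg.Agent.H129.TorusChar Cfsg.Agent.H129.TorusCent
  Cfsg.Agent.H129.TorusTw Cfsg.Agent.H129.TorusMain
open Cfsg.Agent.ChevalleyStructure.CoxeterF4E6 (cs6)
open Cfsg.Agent.H129.TwE6Fr Cfsg.Agent.H129.TorusUntw

universe u

section

variable {k : Type u} [Field k] [IsAlgClosed k] {p e : ℕ} [Fact p.Prime] [CharP k p] (hk : LocFin k)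
  {h : ↥(chevE6.group k)} (hT : h ∈ TT chevE6 k) {c : k} (hc : ∀ x, cX RGDTwE6.hp h x = c ^ lam x)

include hT hc in
/-- the representatives of `U` commute with `h` -/
theorem comm_U (p : ℕ) [Fact p.Prime] [CharP k p] (hk : LocFin k)
    {hN : NSys CoxeterMatrix.E₆ (TT chevE6 k) (nc RGDTwE6.hp k)} {v : CoxeterMatrix.E₆.Group} (hv : v ∈ U)
    {y : ↥(chevE6.group k)} (hy : Rp cs6 hN v y) : y * h * y⁻¹ = h := by
  have h1 : y * h * y⁻¹ ∈ TT chevE6 k := (Subgroup.mem_normalizer_iff.1 hy.mem_normalizer h).1 hT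
  refine cX_inj RGDTwE6.hp h1 hT fun i => ?_
  have h2 := cX_rp RGDTwE6.hp cs6 hk p hy hT (rep cs6 RGDTwE6.hp.isCartan v⁻¹ (sr i))
  rw [← rep_mul_apply, mul_inv_cancel, map_one, Module.End.one_apply] at h2
  rw [h2, hc, hc, lam_U (inv_mem hv)]

include hT hc in
/-- the roots orthogonal to `lam` commute with `h` -/
theorem comm_PL (p : ℕ) [Fact p.Prime] [CharP k p] (hk : LocFin k) {z : ↥(chevE6.group k)}
    (hz : z ∈ RGD.Sup (XX chevE6 6 k) PL) : z * h = h * z := by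
  have C := coordsL RGDTwE6.hp cs6 hk p
  have h1 : RGD.Sup (XX chevE6 6 k) PL ≤ Subgroup.centralizer {h} := by
    refine RGD.Sup_le fun a ha => ?_
    refine X_le_centralizer C hT ⟨ha.1, ?_⟩
    rw [← cX_root RGDTwE6.hp cs6 hT ha.1, hc, ha.2, zpow_zero]
  exact Subgroup.mem_centralizer_singleton_iff.1 (h1 hz)

variable {F : Type u} [Field F] [Fintype F] (f : F →+* k)

include hT hc in
/-- The general construction. -/
theorem exists_of {q : ℕ} (hqe : q = p ^ e) (hq : IsPrimePow q) (hF : Fintype.card F = q ^ 2)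
    (hN : NSys CoxeterMatrix.E₆ (TT chevE6 k) (nc RGDTwE6.hp k)) (hk : LocFin k) {τ : MulAut ↥(chevE6.group k)} {m : ℕ}
    (hm : Nat.card ↥(NU hN U τ) = m) (hm0 : m ≠ 0) {z : ↥(chevE6.group k)} (hz : z ∈ RGD.Sup (XX chevE6 6 k) PL)
    (hzσ : ∀ y, τ y = y → tau k p e (z * y * z⁻¹) = z * y * z⁻¹) :
    ∃ (Q : Subgroup ↥(twistedE6 F q)) (o : ℕ), Odd o ∧ m ∣ Nat.card ↥Q * o ∧
      ∀ x ∈ Q, h * embT (k := k) f hq hF x * h⁻¹ = embT f hq hF x := by
  classical
  have hfin : Finite ↥(NU hN U τ) := Nat.finite_of_card_ne_zero (by rw [hm]; exact hm0)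
  obtain ⟨R⟩ : Nonempty (Sylow 2 ↥(NU hN U τ)) := inferInstance
  set Rm : Subgroup ↥(chevE6.group k) := (R : Subgroup ↥(NU hN U τ)).map (NU hN U τ).subtype with hRm
  set Qy : Subgroup ↥(chevE6.group k) := Rm.map (MulAut.conj z).toMonoidHom with hQy
  have hel : ∀ y ∈ Qy, y * h = h * y ∧ y ∈ (embT (k := k) f hq hF).range := by
    rintro _ ⟨_, ⟨y, hy, rfl⟩, rfl⟩
    obtain ⟨h1, v, hv, h2⟩ := y.2
    have e1 : (MulAut.conj z).toMonoidHom ((NU hN U τ).subtype y) = z * y.1 * z⁻¹ := rfl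
    rw [e1]
    constructor
    · have h3 := comm_U hT hc p hk hv h2
      have h4 := comm_PL hT hc p hk hz
      have h5 : y.1 * h = h * y.1 := by
        conv_rhs => rw [← h3]
        group
      have h6 : z⁻¹ * h = h * z⁻¹ := by
        rw [inv_mul_eq_iff_eq_mul, ← mul_assoc, h4, mul_inv_cancel_right]
      rw [mul_assoc, h6, mul_assoc, ← mul_assoc y.1, h5, ← mul_assoc, ← mul_assoc, ← mul_assoc, h4]
      group
    · have h3 := tau_pow f hqe hq hF (hzσ _ h1)
      obtain ⟨a, ha⟩ := R.isPGroup'.exists_card_eq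
      have h4 : y ^ 2 ^ a = 1 := by
        have h5 : orderOf y ∣ 2 ^ a := by
          rw [← ha, ← Subgroup.orderOf_mk y hy]
          exact orderOf_dvd_natCard _
        exact orderOf_dvd_iff_pow_eq_one.1 h5
      have h6 : (z * y.1 * z⁻¹) ^ 2 ^ a ∈ (embT (k := k) f hq hF).range := by
        have h7 : (z * y.1 * z⁻¹) ^ 2 ^ a = z * (y.1 ^ 2 ^ a) * z⁻¹ := conj_pow
        have h8 : y.1 ^ 2 ^ a = 1 := by
          have := congrArg Subtype.val h4
          rwa [SubmonoidClass.coe_pow] at this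
        rw [h7, h8, mul_one, mul_inv_cancel]
        exact one_mem _
      have hcop : (Nat.gcd 3 (q + 1)).Coprime (2 ^ a) := by
        refine Nat.Coprime.pow_right _ ?_
        exact Nat.Coprime.coprime_dvd_left (Nat.gcd_dvd_left 3 (q + 1)) (by norm_num)
      exact Cfsg.Agent.H561.RV.mem_of_pow_mem hcop h3 h6
  have hcomap : (Qy.comap (embT (k := k) f hq hF)).map (embT f hq hF) = Qy :=
    Subgroup.map_comap_eq_self fun y hy => (hel y hy).2
  have hcard : Nat.card ↥(Qy.comap (embT (k := k) f hq hF)) = Nat.card ↥(R : Subgroup ↥(NU hN U τ)) := by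
    have h1 : Nat.card ↥((Qy.comap (embT (k := k) f hq hF)).map (embT f hq hF)) =
        Nat.card ↥(Qy.comap (embT (k := k) f hq hF)) :=
      (Nat.card_congr (Subgroup.equivMapOfInjective _ _ (embT_injective f hq hF)).toEquiv).symm
    rw [hcomap] at h1
    rw [← h1, hQy, hRm]
    have h2 : Nat.card ↥(((R : Subgroup ↥(NU hN U τ)).map (NU hN U τ).subtype).map (MulAut.conj z).toMonoidHom) =
        Nat.card ↥((R : Subgroup ↥(NU hN U τ)).map (NU hN U τ).subtype) :=
      (Nat.card_congr (Subgroup.equivMapOfInjective _ _ (MulAut.conj z).injective).toEquiv).symm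
    rw [h2]
    exact (Nat.card_congr (Subgroup.equivMapOfInjective _ _ (Subgroup.subtype_injective _)).toEquiv).symm
  refine ⟨Qy.comap (embT f hq hF), (R : Subgroup ↥(NU hN U τ)).index, ?_, ?_, ?_⟩
  · have h1 := R.not_dvd_index
    rcases Nat.even_or_odd (R : Subgroup ↥(NU hN U τ)).index with h2 | h2
    · exact absurd h2.two_dvd h1
    · exact h2
  · rw [hcard, Subgroup.card_mul_index, hm]
  · intro x hx
    have h1 := (hel _ hx).1
    rw [← h1, mul_inv_cancel_right]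

include hk hT hc in
/-- **A subgroup of `²E₆(q)` of large order centralized by `h`.** -/
theorem exists_Q {q : ℕ} (he : 0 < e) (hqe : q = p ^ e) (hq : IsPrimePow q) (hF : Fintype.card F = q ^ 2) (hodd : Odd q) :
    ∃ (Q : Subgroup ↥(twistedE6 F q)) (m o o' : ℕ), Odd o ∧ Odd o' ∧ Nat.card ↥(twistedE6 F q) ∣ m * o ∧
      m ∣ Nat.card ↥Q * o' ∧ ∀ x ∈ Q, h * embT (k := k) f hq hF x * h⁻¹ = embT f hq hF x := by
  have hN := nsys_of_locFin RGDTwE6.hp cs6 hk p
  have hcS : Nat.card ↥(twistedE6 F q) ∣ ordTw q := ⟨Nat.gcd 3 (q + 1), by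
    rw [mul_comm, S1066.result hq hF]; rfl⟩
  have hσ : IsFrob p e (tau k p e) := isFrob_tau
  have F0 := fr_tau (k := k) (p := p) (e := e) cs6
  have hq1 : 1 < q := hq.one_lt
  have hm4 : q % 4 = 1 ∨ q % 4 = 3 := by
    obtain ⟨j, hj⟩ := hodd
    omega
  rcases hm4 with hm4 | hm4
  · -- the standard torus
    have h1 := card_NU hk (hN := hN) hσ F0 (V := U) (fun v hv x => (flip_U hv x).symm) (lang_flip he hσ F0)
    have h2 : Nat.card ↥(TF (tau k p e)) = (q - 1) ^ 4 * (q + 1) ^ 2 := card_Tfix hqe hq hF f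
    rw [h2, card_U] at h1
    obtain ⟨o, ho, h3⟩ := ordTw_one hm4
    obtain ⟨Q, o', ho', h4, h5⟩ := exists_of hT hc f hqe hq hF hN hk h1
      (mul_ne_zero (mul_ne_zero (pow_ne_zero _ (by omega)) (pow_ne_zero _ (by omega))) (by norm_num))
      (z := 1) (one_mem _) (fun y hy => by rw [one_mul, inv_one, mul_one]; exact hy)
    exact ⟨Q, _, o, o', ho, ho', hcS.trans h3, h4, h5⟩
  · -- the torus of `-1`
    obtain ⟨n, hn, hr⟩ := exists_w0 hk (hN := hN) p
    obtain ⟨z, hz, e1⟩ := lang_fr RGDTwE6.hp cs6 he hσ F0 (S := PL) (fun a ha => ha.1) (fun a ha => PL_flip ha) hn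
    have F1 := (fr_conj hk p hr).mul F0
    have e2 : flip6.trans (repAut cs6 RGDTwE6.hp.isCartan w0) = negL := by
      ext x i
      rw [AddEquiv.trans_apply, repAut_apply, rep_w0, TwE6Fr.flip_flip, negL_apply]
    rw [e2] at F1
    have hτ : IsFrob p e (MulAut.conj n * tau k p e) := hσ.conj_mul n
    have h1 := card_NU hk (hN := hN) hτ F1 (V := U) (fun v hv x => by rw [negL_apply, negL_apply, map_neg])
      (lang_neg hτ F1)
    have h2 := card_TF_neg hτ he F1
    rw [← hqe] at h2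
    rw [h2, card_U] at h1
    obtain ⟨o, ho, h3⟩ := ordTw_three hm4
    obtain ⟨Q, o', ho', h4, h5⟩ := exists_of hT hc f hqe hq hF hN hk h1
      (mul_ne_zero (pow_ne_zero _ (by omega)) (by norm_num)) hz (fun y hy => by
        have h6 : n * tau k p e y * n⁻¹ = y := hy
        have h7 : tau k p e z = z * n := by rw [e1]; group
        rw [map_mul, map_mul, map_inv, h7]
        calc z * n * tau k p e y * (z * n)⁻¹ = z * (n * tau k p e y * n⁻¹) * z⁻¹ := by group
          _ = z * y * z⁻¹ := by rw [h6])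
    exact ⟨Q, _, o, o', ho, ho', hcS.trans h3, h4, h5⟩

end

end Cfsg.Agent.H129.AO
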