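import Cfsg.Agent.H618.AO.Lay

/-!
# A criterion for `AutOdd` (helper129)

`autOdd_of_fac` : `Aut S = D Φ`, `D` normal, `Φ` abelian, the elements of odd order of `Φ` and the `2`-powers of elements of `D`
in `cen P ⊔ Inn S`.
`mem_cen_of_card` : an automorphism centralizing a subgroup whose order is divisible by `|S|₂`.
-/

set_option autoImplicit false

namespace Cfsg.Agent.H129.AO

open Cfsg Cfsg.Agent.H561.RV Cfsg.Agent.H618.AO

variable {S : Type*} [Group S] [Finite S]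

omit [Finite S] in
theorem sol_out (D : Subgroup (MulAut S)) [hDn : D.Normal] (hAD : ∀ φ ψ : MulAut S, φ * ψ * φ⁻¹ * ψ⁻¹ ∈ D)
    (hcm : ∀ a ∈ D, ∀ b ∈ D, a * b * a⁻¹ * b⁻¹ ∈ Inn S) : Group.IsSolvable (Out S) := by
  have hN : (D.map (QuotientGroup.mk' (Inn S))).Normal := hDn.map _ (QuotientGroup.mk'_surjective _)
  rw [Group.isSolvable_iff_subgroup_quotient (D.map (QuotientGroup.mk' (Inn S)))]
  refine ⟨Group.isSolvable_of_comm ?_, Group.isSolvable_of_comm ?_⟩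
  · rintro ⟨_, x, hx, rfl⟩ ⟨_, y, hy, rfl⟩
    apply Subtype.ext
    show QuotientGroup.mk' (Inn S) x * QuotientGroup.mk' (Inn S) y = QuotientGroup.mk' (Inn S) y * QuotientGroup.mk' (Inn S) x
    have h1 : QuotientGroup.mk' (Inn S) (x * y * x⁻¹ * y⁻¹) = 1 := (QuotientGroup.eq_one_iff _).2 (hcm x hx y hy)
    rwa [map_mul, map_mul, map_mul, map_inv, map_inv, mul_inv_eq_one, mul_inv_eq_iff_eq_mul] at h1
  · intro a b
    obtain ⟨x, rfl⟩ := QuotientGroup.mk'_surjective _ a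
    obtain ⟨y, rfl⟩ := QuotientGroup.mk'_surjective _ b
    obtain ⟨x, rfl⟩ := QuotientGroup.mk'_surjective _ x
    obtain ⟨y, rfl⟩ := QuotientGroup.mk'_surjective _ y
    have h1 : QuotientGroup.mk' (D.map (QuotientGroup.mk' (Inn S)))
        (QuotientGroup.mk' (Inn S) (x * y * x⁻¹ * y⁻¹)) = 1 :=
      (QuotientGroup.eq_one_iff _).2 ⟨_, hAD x y, rfl⟩
    simp only [map_mul, map_inv] at h1
    rwa [mul_inv_eq_one, mul_inv_eq_iff_eq_mul] at h1

theorem autOdd_of_fac (P : Sylow 2 S) (D Φ : Subgroup (MulAut S)) [hDn : D.Normal]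
    (hID : Inn S ≤ D) (hΦ : ∀ a ∈ Φ, ∀ b ∈ Φ, a * b = b * a) (hfac : ∀ φ, ∃ δ ∈ D, ∃ f ∈ Φ, φ = δ * f)
    (hf : ∀ f ∈ Φ, Odd (orderOf f) → f ∈ cen P ⊔ Inn S)
    (hcm : ∀ a ∈ D, ∀ b ∈ D, a * b * a⁻¹ * b⁻¹ ∈ Inn S) (hd : ∀ δ ∈ D, ∃ n : ℕ, δ ^ 2 ^ n ∈ cen P ⊔ Inn S) :
    AutOdd S := by
  have hfin : Finite (MulAut S) := Finite.of_injective (fun f : MulAut S => (f : S → S)) DFunLike.coe_injective
  have hAD : ∀ φ ψ : MulAut S, φ * ψ * φ⁻¹ * ψ⁻¹ ∈ D := fun φ ψ => by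
    obtain ⟨δ, hδ, f, hf, rfl⟩ := hfac φ
    obtain ⟨δ', hδ', f', hf', rfl⟩ := hfac ψ
    rw [← QuotientGroup.eq_one_iff (N := D)]
    have h1 : ((δ : MulAut S) : MulAut S ⧸ D) = 1 := (QuotientGroup.eq_one_iff δ).2 hδ
    have h2 : ((δ' : MulAut S) : MulAut S ⧸ D) = 1 := (QuotientGroup.eq_one_iff δ').2 hδ'
    have h3 : ((f : MulAut S) : MulAut S ⧸ D) * (f' : MulAut S) = (f' : MulAut S) * (f : MulAut S) := by
      rw [← QuotientGroup.mk_mul, ← QuotientGroup.mk_mul, hΦ f hf f' hf']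
    simp only [QuotientGroup.mk_mul, QuotientGroup.mk_inv, h1, h2, one_mul]
    rw [h3]
    group
  refine autOdd_of_layers (sol_out D hAD hcm) P (cen P) D (fun φ hφ => hφ) hID hAD (fun φ => ?_) (Or.inr ⟨hcm, hd⟩)
  · obtain ⟨δ, hδ, f, hf', rfl⟩ := hfac φ
    obtain ⟨n, hn⟩ := exists_odd f
    obtain ⟨c, hc, e⟩ := mul_pow_mod D (b := f) hδ (2 ^ n)
    refine ⟨n, ?_⟩
    rw [e]
    exact mul_mem ((le_sup_right : D ≤ cen P ⊔ D) hc) (sup_le_sup_left hID _ (hf _ (pow_mem hf' _) hn))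

/-- an automorphism centralizing a `2`-subgroup of large order -/
theorem mem_cen_of_card (P : Sylow 2 S) {φ : MulAut S} {Q : Subgroup S} {m o o' : ℕ} (ho : Odd o) (ho' : Odd o')
    (hm : Nat.card S ∣ m * o) (hQm : m ∣ Nat.card ↥Q * o') (hφ : ∀ x ∈ Q, φ x = x) : φ ∈ cen P ⊔ Inn S := by
  obtain ⟨R⟩ : Nonempty (Sylow 2 ↥Q) := inferInstance
  -- the order of `R`
  have hR : IsPGroup 2 ((R : Subgroup ↥Q).map Q.subtype) := R.isPGroup'.map _
  obtain ⟨P', hP'⟩ := hR.exists_le_sylow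
  have hcard : Nat.card ↥(P' : Subgroup S) ∣ Nat.card ↥((R : Subgroup ↥Q).map Q.subtype) := by
    obtain ⟨a, ha⟩ := P'.isPGroup'.exists_card_eq
    have hcop : Nat.Coprime (2 ^ a) (o' * o) :=
      Nat.Coprime.pow_left _ ((Nat.coprime_mul_iff_right).2 ⟨ho'.coprime_two_left, ho.coprime_two_left⟩)
    have h1 : Nat.card ↥(P' : Subgroup S) ∣ Nat.card ↥Q * (o' * o) := by
      refine ((P' : Subgroup S).card_subgroup_dvd_card.trans hm).trans ?_
      rw [← mul_assoc]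
      exact Nat.mul_dvd_mul_right hQm o
    rw [ha] at h1 ⊢
    have h2 : 2 ^ a ∣ Nat.card ↥Q := hcop.dvd_of_dvd_mul_right h1
    have h3 : 2 ^ a ∣ Nat.card ↥(R : Subgroup ↥Q) := by
      rw [← (R : Subgroup ↥Q).card_mul_index] at h2
      refine Nat.Coprime.dvd_of_dvd_mul_right ?_ h2
      exact Nat.Coprime.pow_left _ ((Nat.Prime.coprime_iff_not_dvd Nat.prime_two).2 R.not_dvd_index)
    have h4 : Nat.card ↥((R : Subgroup ↥Q).map Q.subtype) = Nat.card ↥(R : Subgroup ↥Q) :=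
      (Nat.card_congr ((R : Subgroup ↥Q).equivMapOfInjective _ Q.subtype_injective).toEquiv).symm
    rw [h4]
    exact h3
  have heq : (R : Subgroup ↥Q).map Q.subtype = P' :=
    Subgroup.eq_of_le_of_card_ge hP' (Nat.le_of_dvd Nat.card_pos hcard)
  have h1 : φ ∈ cen P' := by
    intro x hx
    have hx' : x ∈ (R : Subgroup ↥Q).map Q.subtype := by rw [heq]; exact hx
    obtain ⟨y, -, rfl⟩ := hx'
    exact hφ _ y.2
  exact cen_le P P' h1

end Cfsg.Agent.H129.AO
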