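import Cfsg.Agent.H129.AO.DgSyl
import Cfsg.Agent.H129.AO.Layer

/-!
# The inner-diagonal automorphisms of `²E₆(q)` (helper129)

* `D6` : the automorphisms induced by the fixed points of `tau`; `inn_le`, `comm_D6`;
* `D6_le` : for odd `q` they lie in `cen P ⊔ Inn`.
-/

set_option autoImplicit false
set_option linter.unusedSectionVars false

namespace Cfsg.Agent.H129.AO

open CoxeterSystem Cfsg Cfsg.Lie Cfsg.Lie.ChevalleyDatum
open Cfsg.Agent.ChevalleyStructure Cfsg.Agent.ChevalleyStructure.Elts Cfsg.Agent.ChevalleyStructure.CoxeterGeom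
  Cfsg.Agent.ChevalleyStructure.CoxeterGeomTypes Cfsg.Agent.ChevalleyStructure.NPerm
open Cfsg.Agent.Tits.Roots Cfsg.Agent.Tits.Core Cfsg.Agent.Nodes Cfsg.Agent.Nodes.Reps Cfsg.Agent.Nodes.BNOf
  Cfsg.Agent.Nodes.RGDChev Cfsg.Agent.Nodes.Bruhat Cfsg.Agent.Nodes.SubComb Cfsg.Agent.Nodes.Coroot
open Cfsg.Agent.KFacts.RgdField Cfsg.Agent.KFacts.RgdChevCoord Cfsg.Agent.BpExc.TorCent Cfsg.Agent.BpExc.TorChev
open Cfsg.Agent.GpExc.Field Cfsg.Agent.BpExc.Tow Cfsg.Agent.BpExc.TowChev Cfsg.Agent.BpExc.Fr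
  Cfsg.Agent.BpExc.LangFr Cfsg.Agent.LangThm Cfsg.Agent.BpExc Cfsg.Agent.H129.TorusChar Cfsg.Agent.H129.TorusCent
  Cfsg.Agent.H129.TorusTw Cfsg.Agent.H129.TorusMain Cfsg.Agent.ChevStructure.FieldMap Cfsg.Agent.BpExc.EmbInst
open Cfsg.Agent.ChevalleyStructure.CoxeterF4E6 (cs6)
open Cfsg.Agent.H129.TwE6Fr Cfsg.Agent.H129.TorusUntw
open Cfsg.Agent.H561.RV Cfsg.Agent.H618.AO

universe u

section

variable {k : Type u} [Field k] [IsAlgClosed k] {p e : ℕ} [Fact p.Prime] [CharP k p]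
  {F : Type u} [Field F] [Fintype F] (f : F →+* k) {q : ℕ}

/-- A fixed point of `tau` induces an automorphism. -/
theorem exists_conj (hqe : q = p ^ e) (hq : IsPrimePow q) (hF : Fintype.card F = q ^ 2) {y : ↥(chevE6.group k)}
    (hy : tau k p e y = y) : ∃ φ : MulAut ↥(twistedE6 F q), ∀ x, embT (k := k) f hq hF (φ x) =
      y * embT f hq hF x * y⁻¹ := by
  have key : ∀ y : ↥(chevE6.group k), tau k p e y = y → ∀ x : ↥(twistedE6 F q), ∃ x' : ↥(twistedE6 F q),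
      embT (k := k) f hq hF x' = y * embT f hq hF x * y⁻¹ := fun y hy x => tau_normal f hqe hq hF hy ⟨x, rfl⟩
  have hy' : tau k p e y⁻¹ = y⁻¹ := by rw [map_inv, hy]
  choose g hg using key y hy
  choose g' hg' using key y⁻¹ hy'
  refine ⟨{ toFun := g, invFun := g', left_inv := fun x => ?_, right_inv := fun x => ?_, map_mul' := fun a b => ?_ },
    hg⟩
  · apply embT_injective f hq hF
    rw [hg', hg]; group
  · apply embT_injective f hq hF
    rw [hg, hg']; group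
  · apply embT_injective f hq hF
    rw [map_mul, hg, hg, hg, map_mul]; group

/-- the inner-diagonal automorphisms -/
def D6 (k : Type u) [Field k] [IsAlgClosed k] (p e : ℕ) [Fact p.Prime] [CharP k p]
    {F : Type u} [Field F] [Fintype F] (f : F →+* k) {q : ℕ} (hq : IsPrimePow q) (hF : Fintype.card F = q ^ 2) :
    Subgroup (MulAut ↥(twistedE6 F q)) where
  carrier := {φ | ∃ y : ↥(chevE6.group k), tau k p e y = y ∧ ∀ x, embT (k := k) f hq hF (φ x) =
      y * embT f hq hF x * y⁻¹}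
  one_mem' := ⟨1, map_one _, fun x => by rw [one_mul, inv_one, mul_one]; rfl⟩
  mul_mem' := by
    rintro a b ⟨y, hy, ha⟩ ⟨z, hz, hb⟩
    refine ⟨y * z, by rw [map_mul, hy, hz], fun x => ?_⟩
    rw [MulAut.mul_apply, ha, hb]; group
  inv_mem' := by
    rintro a ⟨y, hy, ha⟩
    refine ⟨y⁻¹, by rw [map_inv, hy], fun x => ?_⟩
    have h1 := ha (a⁻¹ x)
    rw [MulAut.apply_inv_self] at h1
    rw [h1]; group

theorem mem_D6 {hq : IsPrimePow q} {hF : Fintype.card F = q ^ 2} {φ : MulAut ↥(twistedE6 F q)} :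
    φ ∈ D6 k p e f hq hF ↔ ∃ y : ↥(chevE6.group k), tau k p e y = y ∧ ∀ x, embT (k := k) f hq hF (φ x) =
      y * embT f hq hF x * y⁻¹ := Iff.rfl

theorem inn_le (hqe : q = p ^ e) (hq : IsPrimePow q) (hF : Fintype.card F = q ^ 2) :
    Inn ↥(twistedE6 F q) ≤ D6 k p e f hq hF := by
  rintro _ ⟨s, rfl⟩
  exact ⟨embT f hq hF s, tau_embT f hqe hq hF s, fun x => by
    rw [MulAut.conj_apply, map_mul, map_mul, map_inv]⟩

/-- an automorphism induced by an element of the image is inner -/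
theorem inn_of_range (hq : IsPrimePow q) (hF : Fintype.card F = q ^ 2) {φ : MulAut ↥(twistedE6 F q)}
    {y : ↥(chevE6.group k)} (hy : y ∈ (embT (k := k) f hq hF).range)
    (h : ∀ x, embT (k := k) f hq hF (φ x) = y * embT f hq hF x * y⁻¹) : φ ∈ Inn ↥(twistedE6 F q) := by
  obtain ⟨s, rfl⟩ := hy
  refine ⟨s, MulEquiv.ext fun x => embT_injective f hq hF ?_⟩
  rw [h, MulAut.conj_apply, map_mul, map_mul, map_inv]

theorem comm_D6 (hqe : q = p ^ e) (hq : IsPrimePow q) (hF : Fintype.card F = q ^ 2) :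
    ∀ a ∈ D6 k p e f hq hF, ∀ b ∈ D6 k p e f hq hF, a * b * a⁻¹ * b⁻¹ ∈ Inn ↥(twistedE6 F q) := by
  rintro a ⟨y1, h1, ha⟩ b ⟨y2, h2, hb⟩
  have ha' : ∀ x, embT (k := k) f hq hF (a⁻¹ x) = y1⁻¹ * embT f hq hF x * y1 := fun x => by
    have h3 := ha (a⁻¹ x)
    rw [MulAut.apply_inv_self] at h3
    rw [h3]; group
  have hb' : ∀ x, embT (k := k) f hq hF (b⁻¹ x) = y2⁻¹ * embT f hq hF x * y2 := fun x => by
    have h3 := hb (b⁻¹ x)
    rw [MulAut.apply_inv_self] at h3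
    rw [h3]; group
  refine inn_of_range f hq hF (y := y1 * y2 * y1⁻¹ * y2⁻¹) ?_ fun x => ?_
  · obtain ⟨x1, t1, ht1, ht1', rfl⟩ := tau_split f hqe hq hF h1
    obtain ⟨x2, t2, ht2, ht2', rfl⟩ := tau_split f hqe hq hF h2
    have hc := Tfix_comm ht1 ht2
    have e1 : embT f hq hF x1 * t1 * (embT f hq hF x2 * t2) * (embT f hq hF x1 * t1)⁻¹ * (embT f hq hF x2 * t2)⁻¹ =
        embT f hq hF x1 * (t1 * embT f hq hF x2 * t1⁻¹) * ((t1 * t2) * t1⁻¹ * (embT f hq hF x1)⁻¹ * t2⁻¹) *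
          (embT f hq hF x2)⁻¹ := by group
    rw [e1, hc]
    have e2 : t2 * t1 * t1⁻¹ * (embT f hq hF x1)⁻¹ * t2⁻¹ = t2 * (embT (k := k) f hq hF x1)⁻¹ * t2⁻¹ := by group
    rw [e2]
    exact mul_mem (mul_mem (mul_mem ⟨x1, rfl⟩ (tau_normal f hqe hq hF ht1' ⟨x2, rfl⟩))
      (tau_normal f hqe hq hF ht2' (inv_mem ⟨x1, rfl⟩))) (inv_mem ⟨x2, rfl⟩)
  · show embT f hq hF (a (b (a⁻¹ (b⁻¹ x)))) = _
    rw [ha, hb, ha', hb']; group

/-- a torus element with character `c ^ lam` -/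
theorem exists_h (hqe : q = p ^ e) {c : k} (hc0 : c ≠ 0) (hcq : c ^ (q + 1) = 1) :
    ∃ h ∈ TT chevE6 k, tau k p e h = h ∧ ∀ x, cX RGDTwE6.hp h x = c ^ lam x := by
  have hmc : IsMC (fun x : Fin 6 → ℤ => c ^ lam x) := ⟨by
    show c ^ lam 0 = 1
    simp [lam], fun x y => by
    show c ^ lam (x + y) = c ^ lam x * c ^ lam y
    rw [← zpow_add₀ hc0]
    congr 1
    unfold lam
    rw [Pi.add_apply, Pi.add_apply]
    ring⟩
  obtain ⟨h, hT, hc⟩ := exists_cX RGDTwE6.hp TorusChar.invC_E6 (by norm_num) hmc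
    (fun i => IsAlgClosed.exists_pow_nat_eq _ (by norm_num))
  refine ⟨h, hT, ?_, hc⟩
  rw [fix_iff hqe hT]
  intro i
  rw [hc, hc, ← flip_sr', lam_flip]
  have h1 : (c ^ lam (sr i)) ^ (q + 1) = 1 := by
    rw [← zpow_natCast, ← zpow_mul, mul_comm, zpow_mul, zpow_natCast, hcq, one_zpow]
  rw [pow_succ] at h1
  rw [zpow_neg]
  exact inv_eq_of_mul_eq_one_left h1

/-- the index of the torus -/
theorem exists_index (hqe : q = p ^ e) (hq : IsPrimePow q) (hF : Fintype.card F = q ^ 2) :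
    ∃ A : Subgroup ↥(Tfix k p e), A.index = Nat.gcd 3 (q + 1) ∧
      ∀ t ∈ A, ∃ x : ↥(twistedE6 F q), (x : GL chevE6.Idx F) ∈ chevE6.diagonalSubgroup F ∧
        embT (k := k) f hq hF x = t.1 := by
  classical
  let ι : ↥(chevE6.diagonalSubgroup F ⊓ twistedE6 F q) →* ↥(Tfix k p e) :=
    MonoidHom.codRestrict ((embT f hq hF).comp
      (Subgroup.inclusion (inf_le_right : chevE6.diagonalSubgroup F ⊓ twistedE6 F q ≤ twistedE6 F q)))
      (Tfix k p e) (fun x => ⟨emb_T RGDTwE6.hp f ⟨Subgroup.inclusion (tw_le hq hF) ⟨x.1, x.2.2⟩, x.2.1, rfl⟩,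
        tau_embT f hqe hq hF _⟩)
  have hι : Function.Injective ι := by
    intro x y h
    have h1 : embT f hq hF ⟨x.1, x.2.2⟩ = embT (k := k) f hq hF ⟨y.1, y.2.2⟩ := congrArg Subtype.val h
    have h2 := congrArg Subtype.val (embT_injective f hq hF h1)
    exact Subtype.ext h2
  have hA := card_Tfix (p := p) (e := e) hqe hq hF f
  have hB := Cfsg.Agent.S1102.result hq hF
  have hcr : Nat.card ↥ι.range = Nat.card ↥(chevE6.diagonalSubgroup F ⊓ twistedE6 F q) :=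
    (Nat.card_congr (MonoidHom.ofInjective hι).toEquiv).symm
  have h1 := ι.range.card_mul_index
  rw [hcr, hA, ← hB, mul_comm (Nat.gcd 3 (q + 1))] at h1
  have hpos : 0 < Nat.card ↥(chevE6.diagonalSubgroup F ⊓ twistedE6 F q) := Nat.card_pos
  refine ⟨ι.range, Nat.eq_of_mul_eq_mul_left hpos h1, ?_⟩
  rintro _ ⟨x, rfl⟩
  exact ⟨⟨x.1, x.2.2⟩, x.2.1, rfl⟩

theorem prod_zpow_const {K ι : Type*} [Field K] {a : K} (ha : a ≠ 0) (s : Finset ι) (g : ι → ℤ) :
    ∏ i ∈ s, a ^ g i = a ^ ∑ i ∈ s, g i := by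
  classical
  induction s using Finset.induction_on with
  | empty => rw [Finset.prod_empty, Finset.sum_empty, zpow_zero]
  | insert i s hi ih => rw [Finset.prod_insert hi, Finset.sum_insert hi, zpow_add₀ ha, ih]

/-- the character detecting the diagonal automorphisms -/
def mu : Fin 6 → ℤ := ![1, 0, -1, 0, 1, -1]

theorem mu_tab : ∀ i : Fin 6, ∃ d : ℤ, ∑ j : Fin 6, chevE6.cartan i (chevE6.simple j) * mu j = 3 * d := by
  intro i
  have h : ∀ i : Fin 6, ∑ j : Fin 6, chevE6.cartan i (chevE6.simple j) * mu j =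
      3 * (![1, 0, -1, 0, 1, -1] : Fin 6 → ℤ) i := by decide +kernel
  exact ⟨_, h i⟩

/-- **The character `mu` takes cubes as values on the torus of the group over `F`.** -/
theorem cube_diag (hq : IsPrimePow q) (hF : Fintype.card F = q ^ 2) {x : ↥(twistedE6 F q)}
    (hx : (x : GL chevE6.Idx F) ∈ chevE6.diagonalSubgroup F) :
    ∃ b : F, b ≠ 0 ∧ cX RGDTwE6.hp (embT (k := k) f hq hF x) mu = f b ^ 3 := by
  obtain ⟨c, hc, -, hact⟩ := Tor.exists_c RGDTwE6.hp hx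
  have hT : embT (k := k) f hq hF x ∈ TT chevE6 k :=
    emb_T RGDTwE6.hp f ⟨Subgroup.inclusion (tw_le hq hF) x, hx, rfl⟩
  have hc' : ∀ i : Fin 6, c i ≠ 0 := fun i => hc i i.2
  have key : ∀ j : Fin 6, cX RGDTwE6.hp (embT (k := k) f hq hF x) (sr j) =
      f (∏ i : Fin 6, c i ^ chevE6.cartan i (chevE6.simple j)) := by
    intro j
    have hs : chevE6.simple j < chevE6.nroots := simple_lt RGDTwE6.hp.inList (lt_rank RGDTwE6.hp j)
    rw [cX_sr, ← vec_simple RGDTwE6.hp j]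
    apply ch_eq RGDTwE6.hp hs hT
    apply Subtype.ext
    have h1 := congrArg (glMap chevE6 f) (hact _ hs 1)
    rw [map_mul, map_mul, map_inv, mul_one] at h1
    rw [Subgroup.coe_mul, Subgroup.coe_mul, Subgroup.coe_inv, coe_embT, coe_xc RGDTwE6.hp hs, coe_xc RGDTwE6.hp hs]
    rw [glMap_xG, glMap_xG, map_one] at h1
    rw [h1]
    congr 2
  choose d hd using mu_tab
  refine ⟨∏ i : Fin 6, c i ^ d i, Finset.prod_ne_zero_iff.2 fun i _ => zpow_ne_zero _ (hc' i), ?_⟩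
  rw [(isMC_cX RGDTwE6.hp hT).eq_prod]
  have e2 : ∀ j : Fin 6, cX RGDTwE6.hp (embT (k := k) f hq hF x) (sr j) ^ mu j =
      ∏ i : Fin 6, f (c i) ^ (chevE6.cartan i (chevE6.simple j) * mu j) := by
    intro j
    rw [key, map_prod, ← Finset.prod_zpow]
    exact Finset.prod_congr rfl fun i _ => by rw [map_zpow₀, zpow_mul]
  simp only [e2]
  rw [Finset.prod_comm, ← map_pow, ← Finset.prod_pow, map_prod]
  refine Finset.prod_congr rfl fun i _ => ?_
  rw [prod_zpow_const ((map_ne_zero f).2 (hc' i)), hd i, map_pow, map_zpow₀, mul_comm, zpow_mul]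
  exact zpow_ofNat _ 3

/-- **The inner-diagonal automorphisms lie in `cen P ⊔ Inn`.** -/
theorem D6_le (hk : LocFin k) (he : 0 < e) (hqe : q = p ^ e) (hq : IsPrimePow q) (hF : Fintype.card F = q ^ 2)
    (hodd : Odd q) (P : Sylow 2 ↥(twistedE6 F q)) :
    D6 k p e f hq hF ≤ cen P ⊔ Inn ↥(twistedE6 F q) := by
  classical
  rintro δ ⟨y, hy, hδ⟩
  obtain ⟨x, t, ht, ht', rfl⟩ := tau_split f hqe hq hF hy
  -- the torus part
  obtain ⟨φ, hφ⟩ := exists_conj f hqe hq hF ht'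
  have e1 : δ = MulAut.conj x * φ := by
    refine MulEquiv.ext fun z => embT_injective f hq hF ?_
    rw [hδ, MulAut.mul_apply, MulAut.conj_apply, map_mul, map_mul, map_inv, hφ]
    group
  suffices hmain : φ ∈ cen P ⊔ Inn ↥(twistedE6 F q) by
    rw [e1]
    exact mul_mem ((le_sup_right : Inn ↥(twistedE6 F q) ≤ cen P ⊔ Inn ↥(twistedE6 F q)) ⟨x, rfl⟩) hmain
  obtain ⟨A, hA, hAr⟩ := exists_index (k := k) (p := p) (e := e) f hqe hq hF
  have hAn : A.Normal := ⟨fun x hx y => by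
    have e : y * x * y⁻¹ = x := by
      apply Subtype.ext
      show y.1 * x.1 * y.1⁻¹ = x.1
      rw [Tfix_comm y.2.1 x.2.1, mul_inv_cancel_right]
    rw [e]; exact hx⟩
  rcases (Nat.dvd_prime Nat.prime_three).1 (Nat.gcd_dvd_left 3 (q + 1)) with hg | hg
  · -- no diagonal automorphisms
    rw [hg, Subgroup.index_eq_one] at hA
    obtain ⟨s, -, hs⟩ := hAr ⟨t, ht, ht'⟩ (by rw [hA]; trivial)
    exact (le_sup_right : Inn ↥(twistedE6 F q) ≤ _) (inn_of_range f hq hF ⟨s, hs⟩ hφ)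
  · have h3 : 3 ∣ q + 1 := hg ▸ Nat.gcd_dvd_right 3 (q + 1)
    have hq1 : 1 < q := hq.one_lt
    -- the element `c`
    obtain ⟨g, hgen⟩ := IsCyclic.exists_generator (α := Fˣ)
    have hog : orderOf g = q ^ 2 - 1 := by
      rw [orderOf_eq_card_of_forall_mem_zpowers hgen, Nat.card_eq_fintype_card, Fintype.card_units, hF]
    have hfac : q ^ 2 - 1 = (q - 1) * (q + 1) := (sub_fac q hq1.le).1
    set c : k := f ((g : F) ^ (q - 1)) with hcdef
    have hc0 : c ≠ 0 := (map_ne_zero f).2 (pow_ne_zero _ g.ne_zero)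
    have hcq : c ^ (q + 1) = 1 := by
      rw [hcdef, ← map_pow, ← pow_mul, ← hfac, ← hog, ← Units.val_pow_eq_pow_val, pow_orderOf_eq_one,
        Units.val_one, map_one]
    obtain ⟨h, hT, hσ, hc⟩ := exists_h hqe hc0 hcq
    obtain ⟨Q, m, o, o', ho, ho', hm, hQ, hcomm⟩ := exists_Q hk hT hc f he hqe hq hF hodd
    obtain ⟨ψ, hψ⟩ := exists_conj f hqe hq hF hσ
    have hψC : ψ ∈ cen P ⊔ Inn ↥(twistedE6 F q) := by
      refine mem_cen_of_card P ho ho' hm hQ fun x hx => embT_injective (k := k) f hq hF ?_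
      rw [hψ, hcomm x hx]
    -- `h` is not in `A`
    have hhA : (⟨h, hT, hσ⟩ : ↥(Tfix k p e)) ∉ A := by
      intro hmem
      obtain ⟨s, hs1, hs2⟩ := hAr _ hmem
      obtain ⟨b, hb0, hb⟩ := cube_diag (k := k) f hq hF hs1
      rw [hs2] at hb
      have h4 : cX RGDTwE6.hp h mu = c ^ 2 := by
        rw [hc]
        have h5 : lam mu = 2 := by decide
        rw [h5]
        exact zpow_ofNat _ 2
      have hb' : cX RGDTwE6.hp h mu = f b ^ 3 := hb
      rw [h4, hcdef, ← map_pow, ← map_pow] at hb'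
      have h6 := f.injective hb'
      have h7 : (g ^ (q - 1)) ^ 2 = Units.mk0 b hb0 ^ 3 := by
        apply Units.ext
        rw [Units.val_pow_eq_pow_val, Units.val_pow_eq_pow_val, Units.val_pow_eq_pow_val]
        exact h6
      obtain ⟨i, hi⟩ := hgen (Units.mk0 b hb0)
      simp only at hi
      rw [← hi] at h7
      have h8 : g ^ (((q - 1 : ℕ) : ℤ) * 2 - i * 3) = 1 := by
        rw [zpow_sub, zpow_mul, zpow_mul, zpow_natCast]
        have h9 : (g ^ (q - 1)) ^ (2 : ℤ) = (g ^ (q - 1)) ^ 2 := zpow_ofNat _ 2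
        have h10 : (g ^ i) ^ (3 : ℤ) = (g ^ i) ^ 3 := zpow_ofNat _ 3
        rw [h9, h10, h7, mul_inv_cancel]
      have h11 : ((q ^ 2 - 1 : ℕ) : ℤ) ∣ ((q - 1 : ℕ) : ℤ) * 2 - i * 3 := by
        rw [← hog]
        exact orderOf_dvd_iff_zpow_eq_one.2 h8
      have h12 : (3 : ℤ) ∣ ((q ^ 2 - 1 : ℕ) : ℤ) := by
        rw [hfac]
        exact_mod_cast h3.mul_left (q - 1)
      have h13 := h12.trans h11
      have h14 : (3 : ℤ) ∣ ((q - 1 : ℕ) : ℤ) * 2 := by
        have := h13.add (Dvd.intro_left i rfl : (3 : ℤ) ∣ i * 3)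
        rwa [sub_add_cancel] at this
      have h15 : 3 ∣ (q - 1) * 2 := by exact_mod_cast h14
      omega
    -- `A` and `h` generate
    have hsup : A ⊔ Subgroup.zpowers ⟨h, hT, hσ⟩ = ⊤ := by
      rw [← Subgroup.index_eq_one]
      have h4 : (A ⊔ Subgroup.zpowers (⟨h, hT, hσ⟩ : ↥(Tfix k p e))).index ∣ 3 := by
        rw [← hg, ← hA]
        exact Subgroup.index_dvd_of_le le_sup_left
      rcases (Nat.dvd_prime Nat.prime_three).1 h4 with h5 | h5
      · exact h5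
      · exfalso
        apply hhA
        have h6 := Subgroup.relIndex_mul_index (le_sup_left : A ≤ A ⊔ Subgroup.zpowers ⟨h, hT, hσ⟩)
        rw [h5, hA, hg] at h6
        have h7 : A.relIndex (A ⊔ Subgroup.zpowers ⟨h, hT, hσ⟩) = 1 := by omega
        exact (Subgroup.relIndex_eq_one.1 h7) ((le_sup_right : Subgroup.zpowers _ ≤ A ⊔ Subgroup.zpowers _)
          (Subgroup.mem_zpowers _))
    have htm : (⟨t, ht, ht'⟩ : ↥(Tfix k p e)) ∈ A ⊔ Subgroup.zpowers ⟨h, hT, hσ⟩ := by rw [hsup]; trivial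
    rw [← SetLike.mem_coe, Subgroup.normal_mul] at htm
    obtain ⟨a, ha, b, ⟨i, rfl⟩, hab⟩ := htm
    obtain ⟨s, -, hs⟩ := hAr a ha
    have e2 : t = embT f hq hF s * h ^ i := by
      rw [hs]
      have h4 := congrArg Subtype.val hab
      simp only at h4
      rw [← h4]
      show a.1 * ((⟨h, hT, hσ⟩ : ↥(Tfix k p e)) ^ i : ↥(Tfix k p e)).1 = a.1 * h ^ i
      rw [SubgroupClass.coe_zpow]
    have hψi : ∀ x, embT (k := k) f hq hF ((ψ ^ i) x) = h ^ i * embT f hq hF x * (h ^ i)⁻¹ := by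
      have h5 : ∀ n : ℕ, ∀ x, embT (k := k) f hq hF ((ψ ^ n) x) = h ^ n * embT f hq hF x * (h ^ n)⁻¹ := by
        intro n
        induction n with
        | zero => intro x; rw [pow_zero, pow_zero, one_mul, inv_one, mul_one]; rfl
        | succ n ih => intro x; rw [pow_succ', MulAut.mul_apply, hψ, ih, pow_succ']; group
      intro x
      obtain ⟨n, rfl | rfl⟩ := i.eq_nat_or_neg
      · rw [zpow_natCast, zpow_natCast]; exact h5 n x
      · rw [zpow_neg, zpow_neg, zpow_natCast, zpow_natCast]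
        have h6 := h5 n ((ψ ^ n)⁻¹ x)
        rw [MulAut.apply_inv_self] at h6
        rw [h6]; group
    have e3 : φ = MulAut.conj s * ψ ^ i := by
      refine MulEquiv.ext fun z => embT_injective f hq hF ?_
      rw [hφ, e2, MulAut.mul_apply, MulAut.conj_apply, map_mul, map_mul, map_inv, hψi]
      group
    rw [e3]
    exact mul_mem ((le_sup_right : Inn ↥(twistedE6 F q) ≤ cen P ⊔ Inn ↥(twistedE6 F q)) ⟨s, rfl⟩) (zpow_mem hψC i)

end

end Cfsg.Agent.H129.AO
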