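import Cfsg.Agent.H129.AO.NU

/-!
# Lang's theorem for the torus, the sets of roots orthogonal to `lam` (helper129)

* `fr_conj` : conjugation with a representative is a frame automorphism;
* `lang_neg`, `lang_flip` : Lang's theorem for the torus; `card_TF_neg`;
* `PL` : the roots orthogonal to `lam`; `exists_w0` : a representative of `w0` in the group generated by their root groups.
-/

set_option autoImplicit false
set_option linter.unusedSectionVars false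

namespace Cfsg.Agent.H129.AO

open CoxeterSystem Cfsg Cfsg.Lie Cfsg.Lie.ChevalleyDatum
open Cfsg.Agent.ChevalleyStructure Cfsg.Agent.ChevalleyStructure.Elts Cfsg.Agent.ChevalleyStructure.CoxeterGeom
  Cfsg.Agent.ChevalleyStructure.CoxeterGeomTypes Cfsg.Agent.ChevalleyStructure.NPerm
open Cfsg.Agent.Tits.Roots Cfsg.Agent.Tits.Core Cfsg.Agent.Nodes Cfsg.Agent.Nodes.Reps Cfsg.Agent.Nodes.BNOf
  Cfsg.Agent.Nodes.RGDChev Cfsg.Agent.Nodes.Bruhat Cfsg.Agent.Nodes.SubComb Cfsg.Agent.Nodes.Coroot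
open Cfsg.Agent.KFacts.RgdField Cfsg.Agent.KFacts.RgdChevCoord Cfsg.Agent.BpExc.TorCent Cfsg.Agent.BpExc.TorChev
open Cfsg.Agent.GpExc.Field Cfsg.Agent.BpExc.Tow Cfsg.Agent.BpExc.TowChev Cfsg.Agent.BpExc.Fr
  Cfsg.Agent.BpExc.LangFr Cfsg.Agent.LangThm Cfsg.Agent.BpExc Cfsg.Agent.H129.TorusChar Cfsg.Agent.H129.TorusCent
  Cfsg.Agent.H129.TorusTw Cfsg.Agent.H129.TorusMain
open Cfsg.Agent.ChevalleyStructure.CoxeterF4E6 (cs6)
open Cfsg.Agent.H129.TwE6Fr (flip6 flip6_apply flip_flip pj pj_pj flip_sr')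

universe u

section

variable {k : Type u} [Field k] [IsAlgClosed k] {p : ℕ} [Fact p.Prime] [CharP k p] (hk : LocFin k)
  {hN : NSys CoxeterMatrix.E₆ (TT chevE6 k) (nc RGDTwE6.hp k)}

theorem rp_change {T T' : Subgroup ↥(chevE6.group k)} {n : Fin 6 → ↥(chevE6.group k)} (e : T = T')
    (h : NSys CoxeterMatrix.E₆ T n) (h' : NSys CoxeterMatrix.E₆ T' n) {w : CoxeterMatrix.E₆.Group}
    {y : ↥(chevE6.group k)} (hy : Rp cs6 h w y) : Rp cs6 h' w y := by
  subst e; exact hy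

include hk in
theorem fr_conj (p : ℕ) [Fact p.Prime] [CharP k p] {w : CoxeterMatrix.E₆.Group} {n : ↥(chevE6.group k)}
    (hn : Rp cs6 hN w n) :
    Fr cs6 RGDTwE6.hp.isCartan (TT chevE6 k) (XX chevE6 6 k) (MulAut.conj n) (repAut cs6 RGDTwE6.hp.isCartan w) := by
  have H := tow RGDTwE6.hp cs6 hk p
  have h1 := Fr.conj H (rp_change (TL_eq RGDTwE6.hp hk).symm hN H.nsys hn)
  rwa [TL_eq RGDTwE6.hp hk, XL_eq RGDTwE6.hp hk] at h1

variable {e : ℕ} {τ : MulAut ↥(chevE6.group k)}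

/-- the lattice automorphism `-1` -/
def negL : (Fin 6 → ℤ) ≃+ (Fin 6 → ℤ) where
  toFun x := -x
  invFun x := -x
  left_inv x := neg_neg x
  right_inv x := neg_neg x
  map_add' x y := neg_add x y

theorem negL_apply (x : Fin 6 → ℤ) : negL x = -x := rfl

theorem cX_negL (hτ : IsFrob p e τ) (F : Fr cs6 RGDTwE6.hp.isCartan (TT chevE6 k) (XX chevE6 6 k) τ negL)
    {t : ↥(chevE6.group k)} (ht : t ∈ TT chevE6 k) (x : Fin 6 → ℤ) :
    cX RGDTwE6.hp (τ t) x = (cX RGDTwE6.hp t x ^ p ^ e)⁻¹ := by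
  have h1 := cX_sigma RGDTwE6.hp cs6 hτ F ht (-x)
  rw [negL_apply, neg_neg, (isMC_cX RGDTwE6.hp ht).neg] at h1
  rw [h1, inv_pow]

theorem lang_neg (hτ : IsFrob p e τ) (F : Fr cs6 RGDTwE6.hp.isCartan (TT chevE6 k) (XX chevE6 6 k) τ negL) :
    ∀ s ∈ TT chevE6 k, ∃ t ∈ TT chevE6 k, t = s * τ t := by
  intro s hs
  have hmc := isMC_cX RGDTwE6.hp hs
  have hex : ∀ i : Fin 6, ∃ a : k, a ^ (p ^ e + 1) = cX RGDTwE6.hp s (sr i) := fun i =>
    IsAlgClosed.exists_pow_nat_eq _ (Nat.succ_pos _)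
  choose a ha using hex
  have ha0 : ∀ i, a i ≠ 0 := fun i h0 => by
    have h1 := ha i
    rw [h0, zero_pow (Nat.succ_ne_zero _)] at h1
    exact hmc.ne_zero _ h1.symm
  obtain ⟨t, ht, hc⟩ := exists_cX RGDTwE6.hp TorusChar.invC_E6 (by norm_num) (IsMC.of_prod a ha0)
    (fun i => IsAlgClosed.exists_pow_nat_eq _ (by norm_num))
  have hci : ∀ i, cX RGDTwE6.hp t (sr i) = a i := fun i => by
    rw [hc]
    show ∏ j, a j ^ (sr i : Fin 6 → ℤ) j = _
    rw [Finset.prod_eq_single i]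
    · rw [sr_self, zpow_one]
    · intro j _ hj
      rw [sr_ne hj, zpow_zero]
    · intro hi
      exact absurd (Finset.mem_univ i) hi
  have hτt : τ t ∈ TT chevE6 k := (F.tor t).2 ht
  refine ⟨t, ht, cX_inj RGDTwE6.hp ht (mul_mem hs hτt) fun i => ?_⟩
  rw [cX_mul RGDTwE6.hp hs hτt, cX_negL hτ F ht, hci, ← ha, pow_succ]
  have h1 : a i ^ p ^ e ≠ 0 := pow_ne_zero _ (ha0 i)
  field_simp

theorem lang_flip (he : 0 < e) (hτ : IsFrob p e τ)
    (F : Fr cs6 RGDTwE6.hp.isCartan (TT chevE6 k) (XX chevE6 6 k) τ flip6) :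
    ∀ s ∈ TT chevE6 k, ∃ t ∈ TT chevE6 k, t = s * τ t := by
  intro s hs
  have hmc := isMC_cX RGDTwE6.hp hs
  have hq : 1 < p ^ e := Nat.one_lt_pow he.ne' (Fact.out : p.Prime).one_lt
  set q := p ^ e with hqdef
  set χ : Fin 6 → k := fun i => cX RGDTwE6.hp s (sr i) with hχ
  have hχ0 : ∀ i, χ i ≠ 0 := fun i => hmc.ne_zero _
  have hsing : ∀ i, ∃ a : k, a ≠ 0 ∧ χ i * a ^ q = a := by
    intro i
    obtain ⟨a, ha⟩ := IsAlgClosed.exists_pow_nat_eq (χ i)⁻¹ (n := q - 1) (by omega)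
    have ha0 : a ≠ 0 := by
      rintro rfl
      rw [zero_pow (by omega)] at ha
      exact inv_ne_zero (hχ0 i) ha.symm
    refine ⟨a, ha0, ?_⟩
    obtain ⟨m, hm⟩ : ∃ m, q = m + 1 := ⟨q - 1, by omega⟩
    rw [hm, Nat.add_sub_cancel] at ha
    rw [hm, pow_succ, ha, ← mul_assoc, mul_inv_cancel₀ (hχ0 i), one_mul]
  have hpair : ∀ i j, ∃ a : k, a ≠ 0 ∧ χ i * (χ j * a ^ q) ^ q = a := by
    intro i j
    have hqq : 1 < q * q := by nlinarith
    obtain ⟨a, ha⟩ := IsAlgClosed.exists_pow_nat_eq (χ i * χ j ^ q)⁻¹ (n := q * q - 1) (by omega)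
    have hne : χ i * χ j ^ q ≠ 0 := mul_ne_zero (hχ0 i) (pow_ne_zero _ (hχ0 j))
    have ha0 : a ≠ 0 := by
      rintro rfl
      rw [zero_pow (by omega)] at ha
      exact inv_ne_zero hne ha.symm
    refine ⟨a, ha0, ?_⟩
    obtain ⟨m, hm⟩ : ∃ m, q * q = m + 1 := ⟨q * q - 1, by omega⟩
    rw [hm, Nat.add_sub_cancel] at ha
    rw [mul_pow, ← pow_mul, hm, pow_succ, ha, ← mul_assoc, ← mul_assoc, mul_inv_cancel₀ hne, one_mul]
  obtain ⟨a0, h00, h0⟩ := hpair 0 5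
  obtain ⟨a1, h10, h1⟩ := hsing 1
  obtain ⟨a2, h20, h2⟩ := hpair 2 4
  obtain ⟨a3, h30, h3⟩ := hsing 3
  let val : Fin 6 → k := ![a0, a1, a2, a3, χ 4 * a2 ^ q, χ 5 * a0 ^ q]
  have hval0 : ∀ i, val i ≠ 0 := by
    intro i
    fin_cases i
    · exact h00
    · exact h10
    · exact h20
    · exact h30
    · exact mul_ne_zero (hχ0 4) (pow_ne_zero _ h20)
    · exact mul_ne_zero (hχ0 5) (pow_ne_zero _ h00)
  obtain ⟨t, ht, hc⟩ := exists_cX RGDTwE6.hp TorusChar.invC_E6 (by norm_num) (IsMC.of_prod val hval0)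
    (fun i => IsAlgClosed.exists_pow_nat_eq _ (by norm_num))
  have hci : ∀ i, cX RGDTwE6.hp t (sr i) = val i := fun i => by
    rw [hc]
    show ∏ j, val j ^ (sr i : Fin 6 → ℤ) j = _
    rw [Finset.prod_eq_single i]
    · rw [sr_self, zpow_one]
    · intro j _ hj
      rw [sr_ne hj, zpow_zero]
    · intro hi
      exact absurd (Finset.mem_univ i) hi
  have hτt : τ t ∈ TT chevE6 k := (F.tor t).2 ht
  refine ⟨t, ht, cX_inj RGDTwE6.hp ht (mul_mem hs hτt) fun i => ?_⟩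
  have h4 := cX_sigma RGDTwE6.hp cs6 hτ F ht (sr (pj i))
  rw [flip_sr', pj_pj, hci] at h4
  rw [cX_mul RGDTwE6.hp hs hτt, h4, hci]
  show val i = χ i * val (pj i) ^ q
  fin_cases i
  · exact h0.symm
  · exact h1.symm
  · exact h2.symm
  · exact h3.symm
  · rfl
  · rfl

/-- the order of the torus `(q + 1)⁶` -/
theorem card_TF_neg (hτ : IsFrob p e τ) (he : 0 < e)
    (F : Fr cs6 RGDTwE6.hp.isCartan (TT chevE6 k) (XX chevE6 6 k) τ negL) :
    Nat.card ↥(TF τ) = (p ^ e + 1) ^ 6 := by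
  classical
  set N := p ^ e + 1 with hNdef
  have hNk : (N : k) ≠ 0 := by
    rw [hNdef, Nat.cast_add, Nat.cast_pow, CharP.cast_eq_zero k p, zero_pow he.ne', zero_add, Nat.cast_one]
    exact one_ne_zero
  have : NeZero (N : k) := ⟨hNk⟩
  have : NeZero N := ⟨Nat.succ_ne_zero _⟩
  have hfix : ∀ {t : ↥(chevE6.group k)}, t ∈ TT chevE6 k → (τ t = t ↔ ∀ i, cX RGDTwE6.hp t (sr i) ^ N = 1) := by
    intro t ht
    have hmc := isMC_cX RGDTwE6.hp ht
    constructor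
    · intro h i
      have h1 := cX_negL hτ F ht (sr i)
      rw [h] at h1
      rw [hNdef, pow_succ]
      nth_rewrite 2 [h1]
      exact mul_inv_cancel₀ (pow_ne_zero _ (hmc.ne_zero _))
    · intro h
      refine cX_inj RGDTwE6.hp ((F.tor t).2 ht) ht fun i => ?_
      rw [cX_negL hτ F ht]
      have h1 := h i
      rw [hNdef, pow_succ] at h1
      exact inv_eq_of_mul_eq_one_right h1
  let f : ↥(TF τ) → (Fin 6 → ↥(rootsOfUnity N k)) := fun t i =>
    rootsOfUnity.mkOfPowEq (cX RGDTwE6.hp t.1 (sr i)) ((hfix t.2.1).1 t.2.2 i)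
  have hf : ∀ t i, ((f t i : kˣ) : k) = cX RGDTwE6.hp t.1 (sr i) := fun t i => rootsOfUnity.coe_mkOfPowEq _
  have hinj : Function.Injective f := by
    intro s t h
    apply Subtype.ext
    refine cX_inj RGDTwE6.hp s.2.1 t.2.1 fun i => ?_
    rw [← hf, ← hf, h]
  have hsurj : Function.Surjective f := by
    intro c
    let a : Fin 6 → k := fun i => ((c i : kˣ) : k)
    have ha0 : ∀ i, a i ≠ 0 := fun i => (c i : kˣ).ne_zero
    obtain ⟨t, ht, hc⟩ := exists_cX RGDTwE6.hp TorusChar.invC_E6 (by norm_num) (IsMC.of_prod a ha0)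
      (fun i => IsAlgClosed.exists_pow_nat_eq _ (by norm_num))
    have hci : ∀ i, cX RGDTwE6.hp t (sr i) = a i := fun i => by
      rw [hc]
      show ∏ j, a j ^ (sr i : Fin 6 → ℤ) j = _
      rw [Finset.prod_eq_single i]
      · rw [sr_self, zpow_one]
      · intro j _ hj
        rw [sr_ne hj, zpow_zero]
      · intro hi
        exact absurd (Finset.mem_univ i) hi
    have h1 : τ t = t := (hfix ht).2 fun i => by
      rw [hci]
      have h2 := (c i).2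
      rw [mem_rootsOfUnity'] at h2
      exact h2
    refine ⟨⟨t, ht, h1⟩, ?_⟩
    funext i
    apply Subtype.ext
    apply Units.ext
    rw [hf]
    exact hci i
  rw [Nat.card_congr (Equiv.ofBijective f ⟨hinj, hsurj⟩), Nat.card_pi, Finset.prod_const, Finset.card_univ,
    Fintype.card_fin, HasEnoughRootsOfUnity.natCard_rootsOfUnity]

/-- the roots orthogonal to `lam` -/
def PL : Set (Fin 6 → ℤ) := {a | IsRoot cs6 RGDTwE6.hp.isCartan a ∧ lam a = 0}

theorem PL_neg {a : Fin 6 → ℤ} (h : a ∈ PL) : -a ∈ PL := by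
  refine ⟨h.1.neg, ?_⟩
  have h1 := h.2
  unfold lam at h1 ⊢
  rw [Pi.neg_apply, Pi.neg_apply]
  omega

theorem PL_flip {a : Fin 6 → ℤ} (h : a ∈ PL) : flip6 a ∈ PL :=
  ⟨TwE6Fr.isRoot_flip cs6 a h.1, by rw [lam_flip, h.2, neg_zero]⟩

theorem nc_mem (i : Fin 6) : nc RGDTwE6.hp k i ∈ XX chevE6 6 k (sr i) ⊔ XX chevE6 6 k (-sr i) := by
  have hs : chevE6.simple i < chevE6.nroots := simple_lt RGDTwE6.hp.inList (lt_rank RGDTwE6.hp i)
  have hn : chevE6.neg (chevE6.simple i) < chevE6.nroots := by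
    have h : ∀ i : Fin 6, chevE6.neg (chevE6.simple i) < chevE6.nroots := by decide +kernel
    exact h i
  have h1 : ∀ t : k, (⟨xG RGDTwE6.hp.inList (chevE6.simple i) t, xG_mem_group RGDTwE6.hp.inList _ _⟩ :
      ↥(chevE6.group k)) ∈ XX chevE6 6 k (sr i) := by
    intro t
    rw [Subgroup.mem_subgroupOf, ← vec_simple RGDTwE6.hp i, XV_vec RGDTwE6.hp k hs]
    exact xG_mem_rootSubgroup RGDTwE6.hp.inList _ _
  have h2 : ∀ t : k, (⟨xG RGDTwE6.hp.inList (chevE6.neg (chevE6.simple i)) t, xG_mem_group RGDTwE6.hp.inList _ _⟩ :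
      ↥(chevE6.group k)) ∈ XX chevE6 6 k (-sr i) := by
    intro t
    have h3 : ∀ i : Fin 6, vec chevE6 6 (chevE6.neg (chevE6.simple i)) = -sr i := by decide +kernel
    rw [Subgroup.mem_subgroupOf, ← h3 i, XV_vec RGDTwE6.hp k hn]
    exact xG_mem_rootSubgroup RGDTwE6.hp.inList _ _
  have e1 : nc RGDTwE6.hp k i = ⟨xG RGDTwE6.hp.inList (chevE6.simple i) 1, xG_mem_group RGDTwE6.hp.inList _ _⟩ *
      (⟨xG RGDTwE6.hp.inList (chevE6.neg (chevE6.simple i)) (-1⁻¹), xG_mem_group RGDTwE6.hp.inList _ _⟩ *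
      ⟨xG RGDTwE6.hp.inList (chevE6.simple i) 1, xG_mem_group RGDTwE6.hp.inList _ _⟩) := by
    apply Subtype.ext
    exact nG_def RGDTwE6.hp.inList (chevE6.simple i) 1
  rw [e1]
  exact mul_mem (Subgroup.mem_sup_left (h1 1)) (mul_mem (Subgroup.mem_sup_right (h2 _)) (Subgroup.mem_sup_left (h1 1)))

include hk in
theorem exists_rfl6 (p : ℕ) [Fact p.Prime] [CharP k p] (w : CoxeterMatrix.E₆.Group) (i : Fin 6)
    (h : lam (rep cs6 RGDTwE6.hp.isCartan w (sr i)) = 0) :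
    ∃ n ∈ RGD.Sup (XX chevE6 6 k) PL, Rp cs6 hN (w * cs6.simple i * w⁻¹) n := by
  obtain ⟨g, hg⟩ := exists_rp cs6 hN w
  refine ⟨g * nc RGDTwE6.hp k i * g⁻¹, ?_, (hg.mul (rp_simple cs6 hN i)).mul hg.inv⟩
  have F := fr_conj hk p hg
  have hr := isRoot_sr cs6 RGDTwE6.hp.isCartan i
  have h1 := F.map_eq hr
  have h2 := F.map_eq hr.neg
  have h3 : g * nc RGDTwE6.hp k i * g⁻¹ ∈ (XX chevE6 6 k (sr i) ⊔ XX chevE6 6 k (-sr i)).map
      (MulAut.conj g).toMonoidHom := ⟨_, nc_mem i, rfl⟩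
  rw [Subgroup.map_sup, h1, h2, repAut_apply, repAut_apply] at h3
  have h4 : rep cs6 RGDTwE6.hp.isCartan w (sr i) ∈ PL := ⟨hr.act w, h⟩
  have h5 : rep cs6 RGDTwE6.hp.isCartan w (-sr i) ∈ PL := by rw [map_neg]; exact PL_neg h4
  exact (sup_le (RGD.le_Sup h4) (RGD.le_Sup h5)) h3

include hk in
/-- a representative of `w0` -/
theorem exists_w0 (p : ℕ) [Fact p.Prime] [CharP k p] :
    ∃ n ∈ RGD.Sup (XX chevE6 6 k) PL, Rp cs6 hN w0 n := by
  have key : ∀ L : List (List (Fin 6)), (∀ l ∈ L, l ∈ wd4) → ∃ n ∈ RGD.Sup (XX chevE6 6 k) PL,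
      Rp cs6 hN ((L.map fun l => cs6.wordProd l * cs6.simple 3 * (cs6.wordProd l)⁻¹).prod) n := by
    intro L
    induction L with
    | nil => intro _; exact ⟨1, one_mem _, rp_one⟩
    | cons l L ih =>
      intro hL
      obtain ⟨n, hn, hr⟩ := ih fun l hl => hL l (List.mem_cons_of_mem _ hl)
      obtain ⟨n', hn', hr'⟩ := exists_rfl6 hk (hN := hN) p (cs6.wordProd l) 3 (lam_wd4 (hL l List.mem_cons_self))
      refine ⟨n' * n, mul_mem hn' hn, ?_⟩
      rw [List.map_cons, List.prod_cons]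
      exact hr'.mul hr
  exact key wd4 fun l hl => hl

end

end Cfsg.Agent.H129.AO
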