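import Cfsg.Agent.H129.AO.Weyl
import Cfsg.Agent.H129.TorAct
import Cfsg.Agent.H129.TwT

/-!
# The rational points of torus normalizers in `E₆` (helper129)

* `exists_generic`, `cent_T`, `rp_inj` : the torus is self-centralizing, representatives determine the Weyl group element;
* `NU V τ` : the fixed points of `τ` representing elements of `V`; `card_NU`.
-/

set_option autoImplicit false
set_option linter.unusedSectionVars false

namespace Cfsg.Agent.H129.AO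

open CoxeterSystem Cfsg Cfsg.Lie Cfsg.Lie.ChevalleyDatum
open Cfsg.Agent.ChevalleyStructure Cfsg.Agent.ChevalleyStructure.Elts Cfsg.Agent.ChevalleyStructure.CoxeterGeom
  Cfsg.Agent.ChevalleyStructure.CoxeterGeomTypes Cfsg.Agent.ChevalleyStructure.NPerm
open Cfsg.Agent.Tits.Roots Cfsg.Agent.Tits.Core Cfsg.Agent.Nodes Cfsg.Agent.Nodes.Reps Cfsg.Agent.Nodes.BNOf
  Cfsg.Agent.Nodes.RGDChev Cfsg.Agent.Nodes.Bruhat Cfsg.Agent.Nodes.SubComb Cfsg.Agent.Nodes.Coroot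
open Cfsg.Agent.KFacts.RgdField Cfsg.Agent.KFacts.RgdChevCoord Cfsg.Agent.BpExc.TorCent Cfsg.Agent.BpExc.TorChev
open Cfsg.Agent.GpExc.Field Cfsg.Agent.BpExc.Tow Cfsg.Agent.BpExc.TowChev Cfsg.Agent.BpExc.Fr
  Cfsg.Agent.BpExc.LangFr Cfsg.Agent.LangThm Cfsg.Agent.BpExc Cfsg.Agent.H129.TorusChar Cfsg.Agent.H129.TorusCent
  Cfsg.Agent.H129.TorusTw Cfsg.Agent.H129.TorusMain
open Cfsg.Agent.ChevalleyStructure.CoxeterF4E6 (cs6)

universe u

/-- a generic functional -/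
def fv (x : Fin 6 → ℤ) : ℤ := x 0 + 10 * x 1 + 100 * x 2 + 1000 * x 3 + 10000 * x 4 + 100000 * x 5

theorem fv_tab : ∀ r : Fin 72, (fv (vec chevE6 6 r.val)).natAbs ≤ 400000 ∧ fv (vec chevE6 6 r.val) ≠ 0 := by
  decide +kernel

theorem fv_inj : ∀ r s : Fin 72, fv (vec chevE6 6 r.val) = fv (vec chevE6 6 s.val) → r = s := by
  decide +kernel

theorem fv_add (x y : Fin 6 → ℤ) : fv (x + y) = fv x + fv y := by
  simp only [fv, Pi.add_apply]; ring

section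

variable {k : Type u} [Field k] [IsAlgClosed k] {p : ℕ} [Fact p.Prime] [CharP k p] (hk : LocFin k)

theorem exists_generic (k : Type u) [Field k] [IsAlgClosed k] (p : ℕ) [Fact p.Prime] [CharP k p] :
    ∃ t ∈ TT chevE6 k, (∀ a, IsRoot cs6 RGDTwE6.hp.isCartan a → cX RGDTwE6.hp t a ≠ 1) ∧
      ∀ w : CoxeterMatrix.E₆.Group, (∀ a, IsRoot cs6 RGDTwE6.hp.isCartan a →
        cX RGDTwE6.hp t (rep cs6 RGDTwE6.hp.isCartan w a) = cX RGDTwE6.hp t a) → w = 1 := by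
  have hp2 : 2 ≤ p := (Fact.out : p.Prime).two_le
  set N : ℕ := p ^ 30 - 1 with hN
  have hNbig : 1000000 < N := by
    have h1 : 2 ^ 30 ≤ p ^ 30 := Nat.pow_le_pow_left hp2 30
    have h2 : 2 ^ 30 - 1 ≤ N := Nat.sub_le_sub_right h1 1
    have h3 : 2 ^ 30 - 1 = 1073741823 := by norm_num
    omega
  have hN1 : ((N : ℕ) : k) = -1 := by
    rw [hN, Nat.cast_sub (Nat.one_le_pow _ _ (by omega)), Nat.cast_pow, CharP.cast_eq_zero k p, Nat.cast_one,
      zero_pow (by norm_num), zero_sub]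
  have hN0 : ((N : ℕ) : k) ≠ 0 := by rw [hN1]; exact neg_ne_zero.2 one_ne_zero
  have : NeZero (N : k) := ⟨hN0⟩
  have : NeZero N := ⟨by omega⟩
  obtain ⟨u, hu⟩ := HasEnoughRootsOfUnity.exists_primitiveRoot k N
  have hu0 : u ≠ 0 := hu.ne_zero (by omega)
  have hmc : IsMC (fun x : Fin 6 → ℤ => u ^ fv x) := ⟨by
    show u ^ fv 0 = 1
    simp [fv], fun x y => by
    show u ^ fv (x + y) = u ^ fv x * u ^ fv y
    rw [fv_add, zpow_add₀ hu0]⟩
  obtain ⟨t, ht, hc⟩ := exists_cX RGDTwE6.hp TorusChar.invC_E6 (by norm_num) hmc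
    (fun i => IsAlgClosed.exists_pow_nat_eq _ (by norm_num))
  have hone : ∀ y : ℤ, u ^ y = 1 ↔ (N : ℤ) ∣ y := fun y => hu.zpow_eq_one_iff_dvd y
  refine ⟨t, ht, ?_, ?_⟩
  · intro a ha h1
    obtain ⟨r, hr, rfl⟩ := (isRoot_iff RGDTwE6.hp cs6 a).1 ha
    have hr' : r < 72 := hr
    rw [hc, hone] at h1
    obtain ⟨h2, h3⟩ := fv_tab ⟨r, hr'⟩
    apply h3
    apply Int.eq_zero_of_dvd_of_natAbs_lt_natAbs h1
    rw [Int.natAbs_natCast]
    simp only at h2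
    omega
  · intro w hw
    apply eq_one_of_fix cs6 RGDTwE6.hp.isCartan
    intro i
    have h1 := isRoot_sr cs6 RGDTwE6.hp.isCartan i
    have h2 := h1.act w
    have h3 := hw _ h1
    rw [hc, hc] at h3
    have h4 : u ^ (fv (rep cs6 RGDTwE6.hp.isCartan w (sr i)) - fv (sr i)) = 1 := by
      rw [zpow_sub₀ hu0, h3, div_self (zpow_ne_zero _ hu0)]
    rw [hone] at h4
    obtain ⟨r, hr, hre⟩ := (isRoot_iff RGDTwE6.hp cs6 _).1 h2
    obtain ⟨s, hs, hse⟩ := (isRoot_iff RGDTwE6.hp cs6 _).1 h1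
    have hr' : r < 72 := hr
    have hs' : s < 72 := hs
    obtain ⟨b1, -⟩ := fv_tab ⟨r, hr'⟩
    obtain ⟨b2, -⟩ := fv_tab ⟨s, hs'⟩
    have h5 : fv (rep cs6 RGDTwE6.hp.isCartan w (sr i)) - fv (sr i) = 0 := by
      apply Int.eq_zero_of_dvd_of_natAbs_lt_natAbs h4
      rw [Int.natAbs_natCast]
      rw [← hre, ← hse]
      simp only at b1 b2
      omega
    have h6 := fv_inj ⟨r, hr'⟩ ⟨s, hs'⟩ (by
      rw [← hre, ← hse] at h5
      simp only
      omega)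
    have h7 : r = s := congrArg Fin.val h6
    show rep cs6 RGDTwE6.hp.isCartan w (sr i) = sr i
    rw [← hre, h7, hse]

include hk in
/-- the torus is self-centralizing -/
theorem cent_T (p : ℕ) [Fact p.Prime] [CharP k p] {c : ↥(chevE6.group k)}
    (hc : ∀ t ∈ TT chevE6 k, c * t = t * c) : c ∈ TT chevE6 k := by
  have := TwT.finite_W6
  obtain ⟨t, ht, h1, h2⟩ := exists_generic k p
  exact mem_TT_of_comm RGDTwE6.hp cs6 ht hk p h1 h2 (hc t ht)

variable {hN : NSys CoxeterMatrix.E₆ (TT chevE6 k) (nc RGDTwE6.hp k)}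

include hk in
theorem rp_one_inj (p : ℕ) [Fact p.Prime] [CharP k p] {w : CoxeterMatrix.E₆.Group} (h : Rp cs6 hN w 1) : w = 1 := by
  obtain ⟨t, ht, h1, h2⟩ := exists_generic k p
  apply h2
  intro a _
  have h3 := cX_rp RGDTwE6.hp cs6 hk p h ht a
  rwa [one_mul, inv_one, mul_one] at h3

include hk in
theorem rp_inj (p : ℕ) [Fact p.Prime] [CharP k p] {v w : CoxeterMatrix.E₆.Group} {y : ↥(chevE6.group k)} (h : Rp cs6 hN v y)
    (h' : Rp cs6 hN w y) : v = w := by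
  have h1 := h.inv.mul h'
  rw [inv_mul_cancel] at h1
  exact inv_mul_eq_one.1 (rp_one_inj hk p h1)

variable (hN)

/-- The fixed points of `τ` representing elements of `V`. -/
def NU (V : Subgroup CoxeterMatrix.E₆.Group) (τ : MulAut ↥(chevE6.group k)) : Subgroup ↥(chevE6.group k) where
  carrier := {y | τ y = y ∧ ∃ v ∈ V, Rp cs6 hN v y}
  one_mem' := ⟨map_one _, 1, one_mem _, rp_one⟩
  mul_mem' := by
    rintro a b ⟨h1, v, hv, h2⟩ ⟨h3, w, hw, h4⟩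
    exact ⟨by rw [map_mul, h1, h3], v * w, mul_mem hv hw, h2.mul h4⟩
  inv_mem' := by
    rintro a ⟨h1, v, hv, h2⟩
    exact ⟨by rw [map_inv, h1], v⁻¹, inv_mem hv, h2.inv⟩

/-- the fixed points in the torus -/
def TF (τ : MulAut ↥(chevE6.group k)) : Subgroup ↥(chevE6.group k) where
  carrier := {y | y ∈ TT chevE6 k ∧ τ y = y}
  one_mem' := ⟨one_mem _, map_one _⟩
  mul_mem' := fun h h' => ⟨mul_mem h.1 h'.1, by rw [map_mul, h.2, h'.2]⟩
  inv_mem' := fun h => ⟨inv_mem h.1, by rw [map_inv, h.2]⟩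

variable {hN} {e : ℕ} {τ : MulAut ↥(chevE6.group k)} {θ : (Fin 6 → ℤ) ≃+ (Fin 6 → ℤ)}

include hk in
/-- **Lifting Weyl group elements to fixed points.** -/
theorem exists_lift (hτ : IsFrob p e τ) (F : Fr cs6 RGDTwE6.hp.isCartan (TT chevE6 k) (XX chevE6 6 k) τ θ)
    {v : CoxeterMatrix.E₆.Group}
    (hv : ∀ x, rep cs6 RGDTwE6.hp.isCartan v (θ x) = θ (rep cs6 RGDTwE6.hp.isCartan v x))
    (hL : ∀ s ∈ TT chevE6 k, ∃ t ∈ TT chevE6 k, t = s * τ t) : ∃ y, τ y = y ∧ Rp cs6 hN v y := by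
  obtain ⟨y0, hy0⟩ := exists_rp cs6 hN v
  have hnorm : ∀ {a : ↥(chevE6.group k)}, a ∈ TT chevE6 k → y0 * a * y0⁻¹ ∈ TT chevE6 k := fun {a} ha =>
    (Subgroup.mem_normalizer_iff.1 hy0.mem_normalizer a).1 ha
  have hnorm' : ∀ {a : ↥(chevE6.group k)}, a ∈ TT chevE6 k → y0⁻¹ * a * y0 ∈ TT chevE6 k := fun {a} ha => by
    have h1 := (Subgroup.mem_normalizer_iff.1 hy0.inv.mem_normalizer a).1 ha
    rwa [inv_inv] at h1
  have hd : y0⁻¹ * τ y0 ∈ TT chevE6 k := by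
    refine cent_T hk p fun t ht => ?_
    have ht2 : τ⁻¹ t ∈ TT chevE6 k := (F.inv.tor t).2 ht
    have e0 : τ (τ⁻¹ t) = t := MulAut.apply_inv_self _ _ _
    set t2 := τ⁻¹ t with ht2'
    have hs' : τ (y0 * t2 * y0⁻¹) ∈ TT chevE6 k := (F.tor _).2 (hnorm ht2)
    have e1 : y0⁻¹ * τ (y0 * t2 * y0⁻¹) * y0 = t := by
      refine cX_inj RGDTwE6.hp (hnorm' hs') ht fun i => ?_
      have h1 := cX_rp RGDTwE6.hp cs6 hk p hy0.inv hs' (rep cs6 RGDTwE6.hp.isCartan v (sr i))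
      rw [inv_inv, ← rep_mul_apply, inv_mul_cancel, map_one, Module.End.one_apply] at h1
      rw [h1]
      have h2 : rep cs6 RGDTwE6.hp.isCartan v (sr i) = θ (rep cs6 RGDTwE6.hp.isCartan v (θ.symm (sr i))) := by
        rw [← hv, AddEquiv.apply_symm_apply]
      rw [h2, cX_sigma RGDTwE6.hp cs6 hτ F (hnorm ht2), cX_rp RGDTwE6.hp cs6 hk p hy0 ht2,
        ← cX_sigma RGDTwE6.hp cs6 hτ F ht2, e0, AddEquiv.apply_symm_apply]
    calc y0⁻¹ * τ y0 * t = y0⁻¹ * τ y0 * τ t2 := by rw [e0]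
      _ = (y0⁻¹ * τ (y0 * t2 * y0⁻¹) * y0) * (y0⁻¹ * τ y0) := by
        rw [map_mul, map_mul, map_inv]; group
      _ = t * (y0⁻¹ * τ y0) := by rw [e1]
  obtain ⟨t0, ht0, e0⟩ := hL _ hd
  refine ⟨y0 * t0, ?_, hy0.mul_mem_right ht0⟩
  rw [map_mul]
  calc τ y0 * τ t0 = y0 * (y0⁻¹ * τ y0 * τ t0) := by group
    _ = y0 * t0 := by rw [← e0]

include hk in
/-- **The order of `NU`.** -/
theorem card_NU (hτ : IsFrob p e τ) (F : Fr cs6 RGDTwE6.hp.isCartan (TT chevE6 k) (XX chevE6 6 k) τ θ)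
    {V : Subgroup CoxeterMatrix.E₆.Group}
    (hV : ∀ v ∈ V, ∀ x, rep cs6 RGDTwE6.hp.isCartan v (θ x) = θ (rep cs6 RGDTwE6.hp.isCartan v x))
    (hL : ∀ s ∈ TT chevE6 k, ∃ t ∈ TT chevE6 k, t = s * τ t) :
    Nat.card ↥(NU hN V τ) = Nat.card ↥(TF τ) * Nat.card ↥V := by
  classical
  have hex : ∀ y : ↥(NU hN V τ), ∃ v ∈ V, Rp cs6 hN v y.1 := fun y => y.2.2
  choose f hf1 hf2 using hex
  let ρ : ↥(NU hN V τ) →* CoxeterMatrix.E₆.Group :=
    MonoidHom.mk' f fun a b => rp_inj hk p (hf2 (a * b)) ((hf2 a).mul (hf2 b))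
  have hker : Nat.card ↥ρ.ker = Nat.card ↥(TF τ) := by
    refine Nat.card_congr
      { toFun := fun y => ⟨y.1.1, ?_, y.1.2.1⟩
        invFun := fun y => ⟨⟨y.1, y.2.2, 1, one_mem _, rp_of_mem y.2.1⟩, ?_⟩
        left_inv := fun y => rfl
        right_inv := fun y => rfl }
    · have h1 : f y.1 = 1 := y.2
      have h2 := hf2 y.1
      rw [h1] at h2
      exact h2.mem_of_one
    · exact rp_inj hk p (hf2 _) (rp_of_mem y.2.1)
  have hran : ρ.range = V := by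
    ext v
    constructor
    · rintro ⟨y, rfl⟩
      exact hf1 y
    · intro hv
      obtain ⟨y, h1, h2⟩ := exists_lift hk (hN := hN) hτ F (hV v hv) hL
      exact ⟨⟨y, h1, v, hv, h2⟩, rp_inj hk p (hf2 _) h2⟩
  have h1 := ρ.ker.card_mul_index
  rw [Subgroup.index_ker, hran, hker] at h1
  exact h1.symm

end

end Cfsg.Agent.H129.AO
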