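import Cfsg.Agent.H129.TwE6Idx
import Cfsg.Agent.ChevalleyStructure.CoxeterF4E6
import Cfsg.Agent.S1092

/-!
# A subgroup of order `384` of the Weyl group of `E₆` (helper129)

* `lam` : the minuscule coweight `x ↦ x 0 - x 5`, `lam (flip6 x) = - lam x`;
* `U` : the stabilizer of `lam` in the centraliser of the diagram symmetry, `card_U : |U| = 384`;
* `w0` : `rep w0 x = - flip6 x`, a product of four reflections in roots orthogonal to `lam`.
-/

set_option autoImplicit false
set_option linter.unusedSectionVars false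

namespace Cfsg.Agent.H129.AO

open CoxeterSystem Cfsg Cfsg.Lie
open Cfsg.Agent.ChevalleyStructure.CoxeterGeom Cfsg.Agent.ChevalleyStructure.CoxeterF4E6
  Cfsg.Agent.ChevalleyStructure.CoxeterWordCheck Cfsg.Agent.ChevalleyStructure.CoxeterGeomTypes
  Cfsg.Agent.Tits.Roots Cfsg.Agent.Nodes
open Cfsg.Agent.H129.TwE6Fr (flip6 flip6_apply)

/-- the coweight -/
def lam (x : Fin 6 → ℤ) : ℤ := x 0 - x 5

/-- its orbit -/
def lams (i : Fin 3) (x : Fin 6 → ℤ) : ℤ :=
  if i = 0 then x 0 - x 5 else if i = 1 then -x 0 + x 2 - x 4 + x 5 else -x 2 + x 4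

def pgen (i : Fin 4) : Equiv.Perm (Fin 3) :=
  if i = 2 then Equiv.swap 1 2 else if i = 3 then Equiv.swap 0 1 else 1

theorem pgen_liftable : CoxeterMatrix.F₄.IsLiftable pgen := by
  unfold CoxeterMatrix.IsLiftable
  decide +kernel

/-- the action on the orbit -/
def pi3 : CoxeterMatrix.F₄.Group →* Equiv.Perm (Fin 3) := cs4.lift ⟨pgen, pgen_liftable⟩

theorem pi3_simple (i : Fin 4) : pi3 (cs4.simple i) = pgen i := cs4.lift_apply_simple pgen_liftable i

theorem lams_gen (i : Fin 4) (j : Fin 3) (x : Fin 6 → ℤ) :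
    lams (pgen i j) (rep cs6 isCartan6 (cs6.wordProd (gen i)) x) = lams j x := by
  have f0 : ∀ v, pairing A6 0 v = 2 * v 0 - v 2 := by
    intro v; simp only [pairing, Fin.sum_univ_six]; simp [A6]; ring
  have f1 : ∀ v, pairing A6 1 v = 2 * v 1 - v 3 := by
    intro v; simp only [pairing, Fin.sum_univ_six]; simp [A6]; ring
  have f2 : ∀ v, pairing A6 2 v = - v 0 + 2 * v 2 - v 3 := by
    intro v; simp only [pairing, Fin.sum_univ_six]; simp [A6]; ring
  have f3 : ∀ v, pairing A6 3 v = - v 1 - v 2 + 2 * v 3 - v 4 := by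
    intro v; simp only [pairing, Fin.sum_univ_six]; simp [A6]; ring
  have f4 : ∀ v, pairing A6 4 v = - v 3 + 2 * v 4 - v 5 := by
    intro v; simp only [pairing, Fin.sum_univ_six]; simp [A6]; ring
  have f5 : ∀ v, pairing A6 5 v = - v 4 + 2 * v 5 := by
    intro v; simp only [pairing, Fin.sum_univ_six]; simp [A6]
  have hi : i = 0 ∨ i = 1 ∨ i = 2 ∨ i = 3 := by fin_cases i <;> simp
  have hj : j = 0 ∨ j = 1 ∨ j = 2 := by fin_cases j <;> simp
  rcases hi with rfl | rfl | rfl | rfl
  · have hg : cs6.wordProd (gen 0) = cs6.simple 1 := by simp [gen]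
    have hp : pgen 0 = 1 := rfl
    rw [hg, rep_simple, hp, Equiv.Perm.one_apply]
    rcases hj with rfl | rfl | rfl <;> simp [lams, refl_apply]
  · have hg : cs6.wordProd (gen 1) = cs6.simple 3 := by simp [gen]
    have hp : pgen 1 = 1 := rfl
    rw [hg, rep_simple, hp, Equiv.Perm.one_apply]
    rcases hj with rfl | rfl | rfl <;> simp [lams, refl_apply]
  · have hg : cs6.wordProd (gen 2) = cs6.simple 2 * cs6.simple 4 := by simp [gen, wordProd_cons]
    rw [hg, rep_mul_apply, rep_simple, rep_simple, refl_refl_of_eq_zero 2 4 (by decide +kernel)]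
    have e0 : pgen 2 0 = 0 := by decide
    have e1 : pgen 2 1 = 2 := by decide
    have e2 : pgen 2 2 = 1 := by decide
    rcases hj with rfl | rfl | rfl
    · rw [e0]; simp [lams]
    · rw [e1]; simp [lams, f2, f4]; ring
    · rw [e2]; simp [lams, f2, f4]; ring
  · have hg : cs6.wordProd (gen 3) = cs6.simple 0 * cs6.simple 5 := by simp [gen, wordProd_cons]
    rw [hg, rep_mul_apply, rep_simple, rep_simple, refl_refl_of_eq_zero 0 5 (by decide +kernel)]
    have e0 : pgen 3 0 = 1 := by decide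
    have e1 : pgen 3 1 = 0 := by decide
    have e2 : pgen 3 2 = 2 := by decide
    rcases hj with rfl | rfl | rfl
    · rw [e0]; simp [lams, f0, f5]; ring
    · rw [e1]; simp [lams, f0, f5]; ring
    · rw [e2]; simp [lams]

theorem lams_rep (w : CoxeterMatrix.F₄.Group) : ∀ (j : Fin 3) (x : Fin 6 → ℤ),
    lams (pi3 w j) (rep cs6 isCartan6 (psi w) x) = lams j x := by
  induction w using cs4.simple_induction_left with
  | one => intro j x; rw [map_one, map_one, map_one, Module.End.one_apply, Equiv.Perm.one_apply]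
  | mul_simple_left w i ih =>
    intro j x
    have h1 : psi (cs4.simple i) = cs6.wordProd (gen i) := psi_simple i
    rw [map_mul, map_mul, Equiv.Perm.mul_apply, rep_mul_apply, pi3_simple, h1, lams_gen, ih]

/-- the stabilizer in `W(F₄)` -/
def U4 : Subgroup CoxeterMatrix.F₄.Group := (MulAction.stabilizer (Equiv.Perm (Fin 3)) (0 : Fin 3)).comap pi3

theorem mem_U4 {w : CoxeterMatrix.F₄.Group} : w ∈ U4 ↔ pi3 w 0 = 0 := Iff.rfl

theorem pi3_surjective : Function.Surjective pi3 := by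
  rw [← MonoidHom.range_eq_top, eq_top_iff]
  have h1 : Equiv.swap 1 2 ∈ pi3.range := ⟨cs4.simple 2, by rw [pi3_simple]; rfl⟩
  have h2 : Equiv.swap 0 1 ∈ pi3.range := ⟨cs4.simple 3, by rw [pi3_simple]; rfl⟩
  intro σ _
  have h3 : σ ∈ Subgroup.closure ({Equiv.swap 1 2, Equiv.swap 0 1} : Set (Equiv.Perm (Fin 3))) := by
    have key : ∀ σ : Equiv.Perm (Fin 3), σ = 1 ∨ σ = Equiv.swap 1 2 ∨ σ = Equiv.swap 0 1 ∨
        σ = Equiv.swap 1 2 * Equiv.swap 0 1 ∨ σ = Equiv.swap 0 1 * Equiv.swap 1 2 ∨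
        σ = Equiv.swap 1 2 * Equiv.swap 0 1 * Equiv.swap 1 2 := by decide +kernel
    have a1 : Equiv.swap 1 2 ∈ Subgroup.closure ({Equiv.swap 1 2, Equiv.swap 0 1} : Set (Equiv.Perm (Fin 3))) :=
      Subgroup.subset_closure (by simp)
    have a2 : Equiv.swap 0 1 ∈ Subgroup.closure ({Equiv.swap 1 2, Equiv.swap 0 1} : Set (Equiv.Perm (Fin 3))) :=
      Subgroup.subset_closure (by simp)
    rcases key σ with rfl | rfl | rfl | rfl | rfl | rfl
    · exact one_mem _
    · exact a1
    · exact a2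
    · exact mul_mem a1 a2
    · exact mul_mem a2 a1
    · exact mul_mem (mul_mem a1 a2) a1
  refine (Subgroup.closure_le _).2 ?_ h3
  rintro x (rfl | rfl)
  · exact h1
  · exact h2

theorem card_U4 : Nat.card ↥U4 = 384 := by
  have h1 : U4.index = 3 := by
    unfold U4
    rw [Subgroup.index_comap_of_surjective _ pi3_surjective, MulAction.index_stabilizer]
    have h2 : MulAction.orbit (Equiv.Perm (Fin 3)) (0 : Fin 3) = Set.univ := by
      rw [Set.eq_univ_iff_forall]
      intro j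
      exact ⟨Equiv.swap 0 j, by show (Equiv.swap 0 j) 0 = j; exact Equiv.swap_apply_left 0 j⟩
    rw [h2, Set.ncard_univ, Nat.card_eq_fintype_card, Fintype.card_fin]
  have h3 : Nat.card CoxeterMatrix.F₄.Group = 1152 := S1092.result (⟨4, CoxeterMatrix.F₄⟩, 1152) (by simp)
  have h4 := U4.card_mul_index
  rw [h1, h3] at h4
  omega

/-- the stabilizer in `W(E₆)` -/
def U : Subgroup CoxeterMatrix.E₆.Group := U4.map psi

theorem card_U : Nat.card ↥U = 384 := by
  rw [← card_U4]
  exact (Nat.card_congr (U4.equivMapOfInjective psi psi_injective).toEquiv).symm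

theorem cartan_eq : (A6 : Fin 6 → Fin 6 → ℤ) = cartanOf chevE6 6 := by
  funext i j
  revert i j
  decide +kernel

theorem rep_congr {B W : Type*} [Fintype B] [DecidableEq B] [Group W] {M : CoxeterMatrix B} (cs : CoxeterSystem M W)
    {A A' : B → B → ℤ} (e : A = A') (h : IsCartan M A) (h' : IsCartan M A') : rep cs h = rep cs h' := by
  subst e; rfl

theorem rep_eq (w : CoxeterMatrix.E₆.Group) (x : Fin 6 → ℤ) :
    rep cs6 RGDTwE6.hp.isCartan w x = rep cs6 isCartan6 w x := by
  rw [rep_congr cs6 cartan_eq isCartan6 RGDTwE6.hp.isCartan]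

theorem R_eq (x : Fin 6 → ℤ) : R x = flip6 x := by
  rw [flip6_apply]
  funext i
  fin_cases i <;> rfl

/-- elements of `U` fix `lam` -/
theorem lam_U {u : CoxeterMatrix.E₆.Group} (hu : u ∈ U) (x : Fin 6 → ℤ) :
    lam (rep cs6 RGDTwE6.hp.isCartan u x) = lam x := by
  obtain ⟨w, hw, rfl⟩ := hu
  have h1 := lams_rep w 0 x
  rw [mem_U4.1 hw] at h1
  rw [rep_eq]
  exact h1

/-- elements of `U` commute with the diagram symmetry -/
theorem flip_U {u : CoxeterMatrix.E₆.Group} (hu : u ∈ U) (x : Fin 6 → ℤ) :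
    flip6 (rep cs6 RGDTwE6.hp.isCartan u x) = rep cs6 RGDTwE6.hp.isCartan u (flip6 x) := by
  obtain ⟨w, hw, rfl⟩ := hu
  have h1 := rep_R (psi w) x
  rw [(mem_range_iff _).1 ⟨w, rfl⟩] at h1
  rw [rep_eq, rep_eq, ← R_eq, ← R_eq, h1]

theorem lam_flip (x : Fin 6 → ℤ) : lam (flip6 x) = -lam x := by
  rw [flip6_apply]
  show x 5 - x 0 = -(x 0 - x 5)
  ring

/-- the words of the four roots -/
def wd4 : List (List (Fin 6)) := [[], [4, 2], [0, 5, 2, 4], [1, 3, 4, 2, 3, 1, 0, 5, 2, 4]]

/-- the long element -/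
def w0 : CoxeterMatrix.E₆.Group :=
  (wd4.map fun l => cs6.wordProd l * cs6.simple 3 * (cs6.wordProd l)⁻¹).prod

theorem w0_eq : w0 = cs6.wordProd ((wd4.map fun l => l ++ [3] ++ l.reverse).flatten) := by
  unfold w0
  generalize wd4 = L
  induction L with
  | nil => rfl
  | cons l L ih =>
    rw [List.map_cons, List.prod_cons, ih, List.map_cons, List.flatten_cons, wordProd_append, wordProd_append,
      wordProd_append, wordProd_reverse, wordProd_singleton]

theorem w0_check : ∀ i : Fin 6, actList (rows A6) (((wd4.map fun l => l ++ [3] ++ l.reverse).flatten).map (·.val))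
    (unit 6 i) = List.ofFn (fun k : Fin 6 => -(if r k = i then (1 : ℤ) else 0)) := by
  decide +kernel

theorem rep_w0 (x : Fin 6 → ℤ) : rep cs6 RGDTwE6.hp.isCartan w0 x = -flip6 x := by
  rw [rep_eq, ← R_eq]
  have key : rep cs6 isCartan6 w0 = -(LinearMap.funLeft ℤ ℤ r) := by
    refine LinearMap.pi_ext' fun i => LinearMap.ext_ring ?_
    have h1 := w0_check i
    rw [← ofFn_single, actList_ofFn cs6 isCartan6, ← w0_eq] at h1
    have h2 := List.ofFn_injective h1
    rw [LinearMap.comp_apply, LinearMap.comp_apply, LinearMap.single_apply, h2]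
    funext k
    rw [LinearMap.neg_apply, Pi.neg_apply, LinearMap.funLeft_apply, Pi.single_apply]
  rw [key]
  rfl

theorem wd4_lam : ∀ l ∈ wd4, (actList (rows A6) (l.map (·.val)) (unit 6 3)).getD 0 0 =
    (actList (rows A6) (l.map (·.val)) (unit 6 3)).getD 5 0 := by
  decide +kernel

theorem lam_wd4 {l : List (Fin 6)} (hl : l ∈ wd4) : lam (rep cs6 RGDTwE6.hp.isCartan (cs6.wordProd l) (sr 3)) = 0 := by
  have h1 := wd4_lam l hl
  have h2 : List.ofFn (Pi.single 3 1 : Fin 6 → ℤ) = unit 6 3 := ofFn_single 3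
  rw [← h2, actList_ofFn cs6 isCartan6] at h1
  rw [rep_eq]
  have h3 : (sr 3 : Fin 6 → ℤ) = Pi.single 3 1 := rfl
  rw [h3]
  unfold lam
  generalize rep cs6 isCartan6 (cs6.wordProd l) (Pi.single 3 1) = v at *
  have e0 : (List.ofFn v).getD 0 0 = v 0 := rfl
  have e5 : (List.ofFn v).getD 5 0 = v 5 := rfl
  rw [e0, e5] at h1
  rw [h1, sub_self]

end Cfsg.Agent.H129.AO
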